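import Cfsg.Agent.Lib.Sporadic.RuLink.GenImage

/-!
# The automorphism group of the Rudvalis lattice is a fourfold cover of the group in `GL(28,2)`

The two lifts make the representation modulo `1 + i` surjective, and the bound on the order then
forces its kernel to be the four scalars.
-/

set_option autoImplicit false
set_option maxRecDepth 100000

namespace CfsgLib.Sporadic.RuLink

open Cfsg Finset
open CfsgLib.Sporadic

theorem ruI_four (v : LV) : Spor.ruI (Spor.ruI (Spor.ruI (Spor.ruI v))) = v :=
  Subtype.ext (by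
    show Spor.gI • (Spor.gI • (Spor.gI • (Spor.gI • (v : Spor.RuVec)))) = v
    rw [gI_gI, gI_gI, neg_neg])

/-- The scalar `i`. -/
noncomputable def iEl : Spor.fourRu :=
  ⟨{ toFun := Spor.ruI
     invFun := fun v => Spor.ruI (Spor.ruI (Spor.ruI v))
     left_inv := ruI_four
     right_inv := ruI_four },
    fun v w => Subtype.ext (smul_add Spor.gI (v : Spor.RuVec) w), fun _ => rfl, fun v => by
      show Spor.ruNorm (Spor.gI • (v : Spor.RuVec)) = _
      rw [← hr_self, ← hr_self, hr_gI]⟩

theorem act_iEl (v : LV) : act iEl v = Spor.ruI v := rfl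

theorem iEl_central (g : Spor.fourRu) : iEl * g = g * iEl :=
  act_ext fun v => by rw [act_mul, act_mul, act_iEl, act_iEl, act_ruI]

theorem iEl_four : iEl ^ 4 = 1 := act_ext fun v => by
  rw [pow_succ, pow_succ, pow_succ, pow_one, act_mul, act_mul, act_mul, act_iEl, act_iEl, act_iEl, act_iEl,
    ruI_four, act_one]

theorem iEl_two : iEl ^ 2 ≠ 1 := fun e => by
  have h := congrArg (fun g => (act g (baseVec 0) : Spor.RuVec)) e
  simp only [sq, act_mul, act_iEl, act_one] at h
  have h2 : -(baseVec 0 : Spor.RuVec) = baseVec 0 := (gI_gI _).symm.trans h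
  have h3 := hr_neg_left (baseVec 0 : Spor.RuVec) (baseVec 0 : Spor.RuVec)
  rw [h2, hr_self, norm_base] at h3
  norm_num at h3

theorem order_iEl : orderOf iEl = 4 :=
  haveI : Fact (Nat.Prime 2) := ⟨Nat.prime_two⟩
  orderOf_eq_prime_pow (n := 1) (p := 2) (by simpa using iEl_two) (by simpa using iEl_four)

theorem glHom_iEl : glHom iEl = 1 := Units.ext (by
  ext j i
  show phi (Spor.gI • (unitVec i : Spor.RuVec)) j = _
  rw [phi_gI (unitVec i).2, phi_unit, Units.val_one, Matrix.one_apply]
  exact if_congr eq_comm rfl rfl)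

theorem zpowers_le_ker : Subgroup.zpowers iEl ≤ glHom.ker :=
  Subgroup.zpowers_le.2 glHom_iEl

theorem RG_le_range : RuMod.RG ≤ glHom.range := by
  refine (Subgroup.closure_le _).2 ?_
  rintro g ⟨k, hk, hg⟩
  rw [RuMod.nextGens_g] at hk hg
  have hk2 : k < 2 := by simpa [RuMod.Data.g0Gen] using hk
  interval_cases k
  · exact ⟨lift0, Units.ext (mat_lift0.trans hg.symm)⟩
  · exact ⟨lift1, Units.ext (mat_lift1.trans hg.symm)⟩

theorem image_facts {G M : Type*} [Group G] [Group M] (f : G →* M) (R : Subgroup M) (a : G) (n : ℕ)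
    (hfin : Finite G) (hR : R ≤ f.range) (hR0 : 0 < Nat.card R) (ha : Subgroup.zpowers a ≤ f.ker)
    (hn : orderOf a = n) (hle : Nat.card G ≤ n * Nat.card R) :
    f.ker = Subgroup.zpowers a ∧ f.range = R := by
  haveI := hfin
  haveI : Finite f.range := Finite.of_surjective f.rangeRestrict f.rangeRestrict_surjective
  have hprod : Nat.card f.ker * Nat.card f.range = Nat.card G := by
    rw [← Subgroup.index_ker, Subgroup.card_mul_index]
  have h1 : n ≤ Nat.card f.ker := by
    rw [← hn, ← Nat.card_zpowers]
    exact Subgroup.card_le_of_le ha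
  have h2 : Nat.card R ≤ Nat.card f.range := Subgroup.card_le_of_le hR
  have hn0 : 0 < n := hn ▸ orderOf_pos a
  have hk : Nat.card f.ker = n := by
    refine le_antisymm ?_ h1
    by_contra hgt
    push Not at hgt
    have h3 : n * Nat.card R < Nat.card f.ker * Nat.card R := Nat.mul_lt_mul_of_pos_right hgt hR0
    have h4 : Nat.card f.ker * Nat.card R ≤ Nat.card f.ker * Nat.card f.range := Nat.mul_le_mul_left _ h2
    omega
  refine ⟨(Subgroup.eq_of_le_of_card_ge ha ?_).symm, (Subgroup.eq_of_le_of_card_ge hR ?_).symm⟩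
  · rw [hk, Nat.card_zpowers, hn]
  · have h5 : n * Nat.card f.range ≤ n * Nat.card R := by rw [← hk, hprod, hk]; exact hle
    exact Nat.le_of_mul_le_mul_left h5 hn0

theorem center_facts {G M : Type*} [Group G] [Group M] (f : G →* M) (R : Subgroup M) (a : G)
    (hker : f.ker = Subgroup.zpowers a) (hrange : f.range = R) (ha : ∀ g, a * g = g * a)
    (hsimple : IsSimpleGroup R) (hcard : ¬ (Nat.card R).Prime) (hR0 : 0 < Nat.card R) :
    Subgroup.center G = f.ker := by
  haveI := hsimple
  have hcentre : Subgroup.center R = ⊥ := by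
    rcases (Subgroup.Normal.eq_bot_or_eq_top (inferInstance : (Subgroup.center R).Normal)) with h | h
    · exact h
    · exfalso
      haveI : Finite R := Nat.finite_of_card_ne_zero (by omega)
      letI : CommGroup R :=
        { (inferInstance : Group R) with
          mul_comm := fun x y => (Subgroup.mem_center_iff.1 (h ▸ Subgroup.mem_top y : y ∈ Subgroup.center R) x) }
      exact hcard (IsSimpleGroup.prime_card (α := R))
  refine le_antisymm (fun z hz => ?_) ?_
  · have hr : f z ∈ R := hrange ▸ ⟨z, rfl⟩
    have hc : (⟨f z, hr⟩ : R) ∈ Subgroup.center R := by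
      refine Subgroup.mem_center_iff.2 fun x => Subtype.ext ?_
      have hx : x.1 ∈ f.range := by rw [hrange]; exact x.2
      obtain ⟨y, hy⟩ := hx
      show x.1 * f z = f z * x.1
      rw [← hy, ← map_mul, ← map_mul, Subgroup.mem_center_iff.1 hz y]
    rw [hcentre, Subgroup.mem_bot] at hc
    exact congrArg Subtype.val hc
  · rw [hker]
    exact Subgroup.zpowers_le.2 (Subgroup.mem_center_iff.2 fun g => (ha g).symm)

/-- The quotient by the kernel, given as a subgroup equal to it. -/
noncomputable def quotientEquiv {G M : Type*} [Group G] [Group M] (f : G →* M) (R : Subgroup M)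
    (hc : Subgroup.center G = f.ker) (hrange : f.range = R) : (G ⧸ Subgroup.center G) ≃* R :=
  (QuotientGroup.quotientMulEquivOfEq hc).trans
    ((QuotientGroup.quotientKerEquivRange f).trans (MulEquiv.subgroupCongr hrange))

theorem card_RG_pos : 0 < Nat.card RuMod.RG := RuMod.card_RG.symm ▸ (by norm_num)

theorem card_RG_not_prime : ¬ (Nat.card RuMod.RG).Prime := RuMod.card_RG.symm ▸ (by norm_num)

theorem card_fourRu_le' : Nat.card Spor.fourRu ≤ 4 * Nat.card RuMod.RG := by
  have h := card_fourRu_le.2
  rw [RuMod.card_RG]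
  exact h.trans (le_of_eq (by norm_num))

theorem ker_range : glHom.ker = Subgroup.zpowers iEl ∧ glHom.range = RuMod.RG :=
  image_facts glHom RuMod.RG iEl 4 card_fourRu_le.1 RG_le_range card_RG_pos zpowers_le_ker order_iEl
    card_fourRu_le'

theorem center_eq_ker : Subgroup.center Spor.fourRu = glHom.ker :=
  center_facts glHom RuMod.RG iEl ker_range.1 ker_range.2 iEl_central RuMod.simple_RG card_RG_not_prime card_RG_pos

theorem card_center : Nat.card (Subgroup.center Spor.fourRu) = 4 := by
  rw [center_eq_ker, ker_range.1, Nat.card_zpowers, order_iEl]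

/-- The Rudvalis group is the group in `GL(28,2)`. -/
noncomputable def ruEquiv : Spor.Ru ≃* RuMod.RG := quotientEquiv glHom RuMod.RG center_eq_ker ker_range.2

theorem card_Ru : Nat.card Spor.Ru = 145926144000 :=
  (Nat.card_congr ruEquiv.toEquiv).trans RuMod.card_RG

theorem simple_of_equiv {A B : Type*} [Group A] [Group B] (e : A ≃* B) (h : IsSimpleGroup B) : IsSimpleGroup A :=
  haveI := h
  e.isSimpleGroup

theorem simple_Ru : IsSimpleGroup Spor.Ru := by
  have h := @simple_of_equiv Spor.Ru RuMod.RG _ _ ruEquiv RuMod.simple_RG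
  exact h

end CfsgLib.Sporadic.RuLink
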