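import Cfsg.Agent.Lib.Sporadic.RuLink.ProfileChecks

/-!
# The twenty-eight fixed vectors span
-/

set_option autoImplicit false
set_option maxRecDepth 100000
set_option Elab.async false

namespace CfsgLib.Sporadic.RuLink

open Cfsg Finset
open CfsgLib.Sporadic
open CfsgLib.Sporadic.Rudvalis (flatZ)

/-- The fifty-six real rows. -/
noncomputable def rowVec (i : ℕ) : Code :=
  cond (Nat.blt i 28) (Data.fixed.getD i (0, 0, 0)) (iCode (Data.fixed.getD (Nat.sub i 28) (0, 0, 0)))

/-- A coefficient of the inverse, shifted by `500`. -/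
def invAt (c i : ℕ) : ℕ := (Data.invCoef.getD c []).getD i 0

theorem inv_data0 : ∀ c : Fin 7, ∀ d : Fin 56, (∑ i : Fin 56, ((invAt (7 * 0 + c.val) i : ℤ) - 500) * val (rowVec i) d) =
    if 7 * 0 + c.val = d.val then 40 else 0 := by
  decide +kernel

theorem inv_data1 : ∀ c : Fin 7, ∀ d : Fin 56, (∑ i : Fin 56, ((invAt (7 * 1 + c.val) i : ℤ) - 500) * val (rowVec i) d) =
    if 7 * 1 + c.val = d.val then 40 else 0 := by
  decide +kernel

theorem inv_data2 : ∀ c : Fin 7, ∀ d : Fin 56, (∑ i : Fin 56, ((invAt (7 * 2 + c.val) i : ℤ) - 500) * val (rowVec i) d) =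
    if 7 * 2 + c.val = d.val then 40 else 0 := by
  decide +kernel

theorem inv_data3 : ∀ c : Fin 7, ∀ d : Fin 56, (∑ i : Fin 56, ((invAt (7 * 3 + c.val) i : ℤ) - 500) * val (rowVec i) d) =
    if 7 * 3 + c.val = d.val then 40 else 0 := by
  decide +kernel

theorem inv_data4 : ∀ c : Fin 7, ∀ d : Fin 56, (∑ i : Fin 56, ((invAt (7 * 4 + c.val) i : ℤ) - 500) * val (rowVec i) d) =
    if 7 * 4 + c.val = d.val then 40 else 0 := by
  decide +kernel

theorem inv_data5 : ∀ c : Fin 7, ∀ d : Fin 56, (∑ i : Fin 56, ((invAt (7 * 5 + c.val) i : ℤ) - 500) * val (rowVec i) d) =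
    if 7 * 5 + c.val = d.val then 40 else 0 := by
  decide +kernel

theorem inv_data6 : ∀ c : Fin 7, ∀ d : Fin 56, (∑ i : Fin 56, ((invAt (7 * 6 + c.val) i : ℤ) - 500) * val (rowVec i) d) =
    if 7 * 6 + c.val = d.val then 40 else 0 := by
  decide +kernel

theorem inv_data7 : ∀ c : Fin 7, ∀ d : Fin 56, (∑ i : Fin 56, ((invAt (7 * 7 + c.val) i : ℤ) - 500) * val (rowVec i) d) =
    if 7 * 7 + c.val = d.val then 40 else 0 := by
  decide +kernel

theorem inv_data (c d : Fin 56) : (∑ i : Fin 56, ((invAt c i : ℤ) - 500) * val (rowVec i) d) =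
    if c = d then 40 else 0 := by
  obtain ⟨q, r, hq, hc⟩ : ∃ q : ℕ, ∃ r : Fin 7, q < 8 ∧ c.val = 7 * q + r.val :=
    ⟨c.val / 7, ⟨c.val % 7, Nat.mod_lt _ (by norm_num)⟩, by omega, (Nat.div_add_mod _ _).symm⟩
  simp only [Fin.ext_iff, hc]
  interval_cases q
  · exact inv_data0 r d
  · exact inv_data1 r d
  · exact inv_data2 r d
  · exact inv_data3 r d
  · exact inv_data4 r d
  · exact inv_data5 r d
  · exact inv_data6 r d
  · exact inv_data7 r d

/-- A vector is determined by its products with the rows. -/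
theorem eq_of_orth {u v : Spor.RuVec} (h : ∀ i : Fin 28, hr u (cvec (fixedAt i)) = hr v (cvec (fixedAt i)) ∧
    hr u (Spor.gI • cvec (fixedAt i)) = hr v (Spor.gI • cvec (fixedAt i))) : u = v := by
  have hrow : ∀ i : Fin 56, hr (u - v) (cvec (rowVec i)) = 0 := by
    intro i
    rw [hr_sub_left, sub_eq_zero]
    by_cases hi : i.val < 28
    · have e : rowVec i = fixedAt ⟨i, hi⟩ := by
        simp [rowVec, fixedAt, show Nat.blt i.val 28 = true from Nat.ble_eq_true_of_le hi]
      rw [e]; exact (h _).1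
    · have e : rowVec i = iCode (fixedAt ⟨i.val - 28, by omega⟩) := by
        have : Nat.blt i.val 28 = false := Bool.eq_false_iff.2 fun hb => hi (Nat.le_of_ble_eq_true hb)
        simp [rowVec, fixedAt, this]
      rw [e, cvec_iCode]; exact (h _).2
  refine ext_flat fun c => ?_
  have h40 : (40 : ℤ) * flatZ (u - v) c = 0 := by
    have e : ∑ i : Fin 56, ((invAt c i : ℤ) - 500) * hr (u - v) (cvec (rowVec i)) = 40 * flatZ (u - v) c := by
      simp only [hr, flatZ_cvec, mul_sum]
      rw [sum_comm, sum_eq_single c]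
      · rw [show (40 : ℤ) = if c = c then 40 else 0 from (if_pos rfl).symm, ← inv_data c c, sum_mul]
        exact sum_congr rfl fun i _ => by ring
      · intro d _ hd
        rw [show (∑ i : Fin 56, ((invAt c i : ℤ) - 500) * (flatZ (u - v) d * val (rowVec i) d)) =
          flatZ (u - v) d * ∑ i : Fin 56, ((invAt c i : ℤ) - 500) * val (rowVec i) d by
          rw [mul_sum]; exact sum_congr rfl fun i _ => by ring, inv_data, if_neg (Ne.symm hd), mul_zero]
      · simp
    rw [← e]
    simp [hrow]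
  rw [flatZ_sub] at h40
  omega

end CfsgLib.Sporadic.RuLink
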