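import Cfsg.Agent.Lib.Sporadic.RuLink.ProfileFixed
import Cfsg.Agent.Lib.Sporadic.RuLink.Span

/-!
# The upper bound on the automorphism group of the Rudvalis lattice

An automorphism is determined by the images of six minimal vectors, whose possible images are counted
by their products with the earlier ones.
-/

set_option autoImplicit false
set_option maxRecDepth 100000

namespace CfsgLib.Sporadic.RuLink

open Cfsg Finset
open CfsgLib.Sporadic
open CfsgLib.Sporadic.Rudvalis (flatZ)

abbrev LV : Type := ↥Spor.ruLattice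

/-- An automorphism as a map of the lattice. -/
def act (g : Spor.fourRu) (v : LV) : LV := (g.1 : Equiv.Perm LV) v

theorem act_mul (g h : Spor.fourRu) (v : LV) : act (g * h) v = act g (act h v) := rfl

theorem act_one (v : LV) : act 1 v = v := rfl

theorem act_add (g : Spor.fourRu) (v w : LV) : act g (v + w) = act g v + act g w := g.2.1 v w

theorem act_ruI (g : Spor.fourRu) (v : LV) : act g (Spor.ruI v) = Spor.ruI (act g v) := g.2.2.1 v

theorem act_hr (g : Spor.fourRu) (v w : LV) :
    hr (act g v : Spor.RuVec) (act g w) = hr (v : Spor.RuVec) w := by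
  have h := norm_add (act g v : Spor.RuVec) (act g w)
  have e : ((act g v : Spor.RuVec) + (act g w : Spor.RuVec)) = (act g (v + w) : Spor.RuVec) := by
    rw [act_add]; rfl
  rw [e] at h
  unfold act at h ⊢
  rw [g.2.2.2 (v + w), g.2.2.2 v, g.2.2.2 w, show ((v + w : LV) : Spor.RuVec) = (v : Spor.RuVec) + w from rfl,
    norm_add] at h
  linarith

theorem act_ext {g h : Spor.fourRu} (e : ∀ v, act g v = act h v) : g = h :=
  Subtype.ext (Equiv.ext e)

theorem valK_eq (a : Code) (c : ℕ) : valK a c = val a c := by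
  simp only [valK, val, bit0_eq, Rudvalis.bitn, Int.subNatNat_eq_coe]
  cases a.2.1.testBit c <;> cases a.2.2.testBit c <;> rfl

/-- The base vectors in the lattice. -/
noncomputable def baseVec (k : Fin 6) : LV := ⟨cvec (baseAt k), cvec_mem (base_data k).1⟩

/-- The vectors that span. -/
noncomputable def fixVec (i : Fin 28) : LV := ⟨cvec (fixedAt i), cvec_mem (fixed_data i).1⟩

theorem norm_base (k : Fin 6) : Spor.ruNorm (baseVec k : Spor.RuVec) = 16 := by
  rw [← hr_self]; show hr (cvec _) (cvec _) = 16; rw [hr_cvec]; exact (base_data k).2.1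

theorem norm_fix (i : Fin 28) : Spor.ruNorm (fixVec i : Spor.RuVec) = 16 := by
  rw [← hr_self]; show hr (cvec _) (cvec _) = 16; rw [hr_cvec]; exact (fixed_data i).2.1

/-- The image of a minimal vector has the profile of the vector. -/
theorem image_code (g : Spor.fourRu) (k : ℕ) (hk : k ≤ 6) (hfix : ∀ j : Fin 6, j.val < k → act g (baseVec j) = baseVec j)
    (t : Code) (v : LV) (hv : (v : Spor.RuVec) = cvec t) (hn : Spor.ruNorm (v : Spor.RuVec) = 16) :
    ∃ a ∈ minList, (act g v : Spor.RuVec) = cvec a ∧ sameProfile t k a = true := by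
  obtain ⟨a, ha, he⟩ := classify (act g v).2 (by unfold act; rw [g.2.2.2 v, hn])
  refine ⟨a, ha, he, ?_⟩
  have hdot : ∀ j : Fin 6, j.val < k → dotc a (baseAt j) = dotc t (baseAt j) ∧
      dotc a (iCode (baseAt j)) = dotc t (iCode (baseAt j)) := by
    intro j hj
    constructor
    · rw [← hr_cvec, ← hr_cvec, ← he, ← hv]
      have := act_hr g v (baseVec j)
      rwa [hfix j hj] at this
    · rw [← hr_cvec, ← hr_cvec, cvec_iCode, ← he, ← hv]
      have := act_hr g v (Spor.ruI (baseVec j))
      rwa [act_ruI, hfix j hj] at this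
  induction k with
  | zero => rfl
  | succ k ih =>
    show (sameProfile t k a && cond (Nat.beq k 0) (sameAt t a 0 && sameAt t a 1) (sameDot t a k)) = true
    rw [ih (by omega) (fun j hj => hfix j (by omega)) (fun j hj => hdot j (by omega)), Bool.true_and]
    obtain ⟨h1, h2⟩ := hdot ⟨k, by omega⟩ (Nat.lt_succ_self k)
    rcases Nat.eq_zero_or_pos k with rfl | hk0
    · simp only at h1 h2
      rw [base_zero, ← hr_cvec, ← hr_cvec] at h1 h2
      rw [cvec_iCode, ← neg_inj, ← hr_gI_left, ← hr_gI_left] at h2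
      have h0 : ∀ u : Code, hr (cvec u) (cvec (fourCode 0)) = 4 * val u 0 := fun u => by
        rw [show cvec (fourCode 0) = cvec (fourCode ((0 : Fin 56) : ℕ)) from rfl, hr_fourCode, flatZ_cvec]; rfl
      have h3 : ∀ u : Code, hr (Spor.gI • cvec u) (cvec (fourCode 0)) = - (4 * val u 1) := fun u => by
        rw [show cvec (fourCode 0) = cvec (fourCode ((0 : Fin 56) : ℕ)) from rfl, hr_fourCode, flatZ_gI_eq,
          dif_pos (show ((0 : Fin 56) : ℕ) % 2 = 0 from rfl), flatZ_cvec, mul_neg]
        rfl
      rw [h0, h0] at h1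
      rw [h3, h3] at h2
      show (sameAt t a 0 && sameAt t a 1) = true
      simp only [sameAt, valK_eq, Bool.and_eq_true, decide_eq_true_eq]
      constructor <;> omega
    · rw [show Nat.beq k 0 = false from Bool.eq_false_iff.2 fun h => hk0.ne' (Nat.eq_of_beq_eq_true h), cond_false,
        sameDot, Bool.and_eq_true, decide_eq_true_eq, decide_eq_true_eq]
      exact ⟨h1, h2⟩

theorem sameProfile_head {t m : Code} : ∀ {k : ℕ}, 0 < k → sameProfile t k m = true →
    sameAt t m 0 = true ∧ sameAt t m 1 = true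
  | 0, h, _ => absurd h (lt_irrefl 0)
  | 1, _, h => by
    have : (true && cond (Nat.beq 0 0) (sameAt t m 0 && sameAt t m 1) (sameDot t m 0)) = true := h
    simpa using this
  | k + 2, _, h => by
    have h' : (sameProfile t (k + 1) m && cond (Nat.beq (k + 1) 0) (sameAt t m 0 && sameAt t m 1)
        (sameDot t m (k + 1))) = true := h
    rw [Bool.and_eq_true] at h'
    exact sameProfile_head (Nat.succ_pos k) h'.1

theorem minList_eq : minList = fourList ++ Data.units.map unpack := by rw [minList, units_eq]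

theorem head_eq {x : ℕ} {t : Code} (hx : x ∈ Data.units) (ht : t.1 = 1 ∨ t.1 = 4) (hd : t.2.1 &&& t.2.2 = 0)
    (ht2 : t.2.1 < 2 ^ 56)
    (h : sameAt t (unpack x) 0 = true ∧ sameAt t (unpack x) 1 = true) : headBits x = headOf t := by
  have hdx : (x &&& 72057594037927935) &&& (x >>> 56) = 0 :=
    Nat.eq_of_beq_eq_true (List.all_eq_true.1 units_disjoint x hx)
  have bits : ∀ c : ℕ, c < 56 → sameAt t (unpack x) c = true →
      x.testBit c = t.2.1.testBit c ∧ x.testBit (56 + c) = t.2.2.testBit c := by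
    intro c hc hs
    have e1 := congrArg (fun z => z.testBit c) hdx
    have e2 := congrArg (fun z => z.testBit c) hd
    simp only [Nat.testBit_and, Nat.zero_testBit, Nat.testBit_shiftRight] at e1 e2
    rw [show (72057594037927935 : ℕ) = 2 ^ 56 - 1 by norm_num, Nat.testBit_two_pow_sub_one,
      decide_eq_true hc, Bool.and_true] at e1
    simp only [sameAt, valK_eq, decide_eq_true_eq, val, Rudvalis.bitn] at hs
    simp only [unpack] at hs
    rw [show Nat.land x 72057594037927935 = x &&& (2 ^ 56 - 1) from by norm_num,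
      show Nat.shiftRight x 56 = x >>> 56 from rfl, Nat.testBit_and, Nat.testBit_two_pow_sub_one,
      decide_eq_true hc, Bool.and_true, Nat.testBit_shiftRight] at hs
    rcases ht with ht | ht <;> rw [ht] at hs <;> revert hs e1 e2 <;>
    cases x.testBit c <;> cases x.testBit (56 + c) <;> cases t.2.1.testBit c <;> cases t.2.2.testBit c <;> decide
  obtain ⟨a0, b0⟩ := bits 0 (by norm_num) h.1
  obtain ⟨a1, b1⟩ := bits 1 (by norm_num) h.2
  refine Nat.eq_of_testBit_eq fun i => ?_
  show (x &&& 216172782113783811).testBit i = ((t.2.1 ||| (t.2.2 <<< 56)) &&& 216172782113783811).testBit i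
  rw [Nat.testBit_and, Nat.testBit_and, Nat.testBit_or, Nat.testBit_shiftLeft]
  rcases hm : Nat.testBit 216172782113783811 i with _ | _
  · simp
  · obtain rfl | rfl | rfl | rfl : i = 0 ∨ i = 1 ∨ i = 56 ∨ i = 57 := by
      by_contra hn
      rw [show (216172782113783811 : ℕ) = 2 ^ 0 ||| 2 ^ 1 ||| 2 ^ 56 ||| 2 ^ 57 by decide +kernel] at hm
      simp only [Nat.testBit_or, Nat.testBit_two_pow, Bool.or_eq_true, decide_eq_true_eq] at hm
      omega
    · simp [a0]
    · simp [a1]
    · rw [Nat.testBit_lt_two_pow ht2]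
      simpa using b0
    · rw [Nat.testBit_lt_two_pow (lt_of_lt_of_le ht2 (Nat.pow_le_pow_right (by norm_num) (by norm_num)))]
      simpa using b1

theorem head_bound : (∀ k : Fin 6, (baseAt k).2.1 < 2 ^ 56 ∧ (baseAt k).2.1 &&& (baseAt k).2.2 = 0) ∧
    ∀ i : Fin 28, (fixedAt i).2.1 < 2 ^ 56 ∧ (fixedAt i).2.1 &&& (fixedAt i).2.2 = 0 := by
  decide +kernel

/-- A code with the profile of `t` is among the candidates. -/
theorem mem_cands {t a : Code} {k : ℕ} (hk : 0 < k) (ha : a ∈ minList) (h : sameProfile t k a = true)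
    (ht : t.1 = 1 ∨ t.1 = 4) (ht' : t.2.1 < 2 ^ 56 ∧ t.2.1 &&& t.2.2 = 0) :
    (a ∈ cands t k) ∧
      (headOf t = headOf (baseAt 1) → a ∈ candsOne t k) := by
  rw [minList_eq, List.mem_append] at ha
  rcases ha with ha | ha
  · have : a ∈ selK (sameProfile t k) fourList := by rw [selK_eq]; exact List.mem_filter.2 ⟨ha, h⟩
    exact ⟨List.mem_append_left _ this, fun _ => List.mem_append_left _ this⟩
  · obtain ⟨x, hx, rfl⟩ := List.mem_map.1 ha
    have hh : headBits x = headOf t := head_eq hx ht ht'.2 ht'.1 (sameProfile_head hk h)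
    constructor
    · skip
      refine List.mem_append_right _ ?_
      rw [selK_eq]
      refine List.mem_filter.2 ⟨List.mem_map.2 ⟨x, ?_, rfl⟩, h⟩
      rw [selK_eq]
      exact List.mem_filter.2 ⟨hx, by rw [Nat.beq_eq]; exact hh⟩
    · intro h2
      refine List.mem_append_right _ ?_
      rw [selK_eq]
      refine List.mem_filter.2 ⟨List.mem_map.2 ⟨x, ?_, rfl⟩, h⟩
      rw [← classOne_eq, selK_eq]
      exact List.mem_filter.2 ⟨hx, by rw [Nat.beq_eq, hh, h2]⟩

theorem base_kind : ∀ k : Fin 6, (baseAt k).1 = 1 ∨ (baseAt k).1 = 4 := by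
  decide +kernel

/-- The automorphisms fixing the first `k` base vectors. -/
noncomputable def stab (k : ℕ) : Subgroup Spor.fourRu where
  carrier := {g | ∀ j : Fin 6, j.val < k → act g (baseVec j) = baseVec j}
  one_mem' := fun _ _ => act_one _
  mul_mem' := fun {g h} hg hh j hj => by rw [act_mul, hh j hj, hg j hj]
  inv_mem' := fun {g} hg j hj => by
    conv_lhs => rw [← hg j hj]
    rw [← act_mul, inv_mul_cancel, act_one]

theorem stab_succ_le (k : ℕ) : stab (k + 1) ≤ stab k := fun _ hg j hj => hg j (Nat.lt_succ_of_lt hj)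

/-- Fixing six base vectors, an automorphism is trivial. -/
theorem stab_six : stab 6 = ⊥ := by
  refine (Subgroup.eq_bot_iff_forall _).2 fun g hg => ?_
  have hfix : ∀ i, act g (fixVec i) = fixVec i := by
    intro i
    obtain ⟨a, ha, he, hp⟩ := image_code g 6 le_rfl hg (fixedAt i) (fixVec i) rfl (norm_fix i)
    obtain ⟨h1, h2⟩ := mem_cands (by norm_num) ha hp (.inl (fixed_data i).2.2.1) (head_bound.2 i)
    have hmem := h2 (fixed_data i).2.2.2
    have key : ∀ m, (Data.fixed.all fun t => !sameProfile t 6 m || codeBeq m t) = true →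
        sameProfile (fixedAt i) 6 m = true → m = fixedAt i := by
      intro m hm hs
      have hi : fixedAt i ∈ Data.fixed := by
        rw [fixedAt, List.getD_eq_getElem _ _ (show (i : ℕ) < Data.fixed.length by simp [Data.fixed])]
        exact List.getElem_mem _
      have := List.all_eq_true.1 hm _ hi
      rw [hs, Bool.not_true, Bool.false_or, codeBeq, Bool.and_eq_true, Bool.and_eq_true, Nat.beq_eq,
        Nat.beq_eq, Nat.beq_eq] at this
      exact Prod.ext this.1.1 (Prod.ext this.1.2 this.2)
    refine Subtype.ext ?_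
    rw [he]
    show cvec a = cvec (fixedAt i)
    refine congrArg cvec ?_
    rw [candsOne, List.mem_append, selK_eq, selK_eq, List.mem_filter, List.mem_filter, List.mem_map] at hmem
    rcases hmem with ⟨hm, hs⟩ | ⟨⟨x, hx, rfl⟩, hs⟩
    · exact key a (List.all_eq_true.1 fixed_four a hm) hs
    · exact key _ (List.all_eq_true.1 fixed_class x hx) hs
  refine act_ext fun v => ?_
  rw [act_one]
  refine Subtype.ext (eq_of_orth fun i => ?_)
  have h1 := act_hr g v (fixVec i)
  have h2 := act_hr g v (Spor.ruI (fixVec i))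
  rw [hfix i] at h1
  rw [act_ruI, hfix i] at h2
  exact ⟨h1, h2⟩

theorem card_step (k : Fin 6) (C : List Code) (hC : ∀ a ∈ minList, sameProfile (baseAt k) k a = true → a ∈ C)
    {m : ℕ} (hm : Finite (stab (k + 1))) (hm' : Nat.card (stab (k + 1)) ≤ m) :
    Finite (stab k) ∧ Nat.card (stab k) ≤ C.length * m := by
  classical
  let f : stab k → LV := fun g => act g.1 (baseVec k)
  have hf : ∀ g, ∃ a ∈ C.toFinset, (f g : Spor.RuVec) = cvec a := fun g => by
    obtain ⟨a, ha, he, hp⟩ := image_code g.1 k k.isLt.le g.2 (baseAt k) (baseVec k) rfl (norm_base k)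
    exact ⟨a, List.mem_toFinset.2 (hC a ha hp), he⟩
  choose a ha he using hf
  let H := (stab (k + 1)).subgroupOf (stab k)
  have hinj : ∀ g h : stab k, a g = a h → (QuotientGroup.mk g : stab k ⧸ H) = QuotientGroup.mk h := by
    intro g h e
    have e' : f g = f h := Subtype.ext (by rw [he, he, e])
    refine QuotientGroup.eq.2 (Subgroup.mem_subgroupOf.2 fun j hj => ?_)
    rcases Nat.lt_succ_iff_lt_or_eq.1 hj with hj' | hj'
    · exact (g⁻¹ * h).2 j hj'
    · obtain rfl : j = k := Fin.ext hj'
      show act ((g⁻¹ * h : stab j) : Spor.fourRu) (baseVec j) = baseVec j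
      rw [Subgroup.coe_mul, Subgroup.coe_inv, act_mul]
      show act (g.1)⁻¹ (f h) = _
      rw [← e']
      show act (g.1)⁻¹ (act g.1 (baseVec j)) = _
      rw [← act_mul, inv_mul_cancel, act_one]
  let F : stab k ⧸ H → ↥C.toFinset := fun q => ⟨a q.out, ha _⟩
  have hF : Function.Injective F := fun q r e => by
    have := hinj _ _ (Subtype.mk.inj e)
    rwa [QuotientGroup.out_eq', QuotientGroup.out_eq'] at this
  haveI : Finite (stab k ⧸ H) := Finite.of_injective F hF
  have hidx : H.index ≤ C.length := by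
    rw [Subgroup.index]
    refine le_trans (Nat.card_le_card_of_injective F hF) ?_
    rw [Nat.card_eq_fintype_card, Fintype.card_coe]
    exact List.toFinset_card_le _
  let e := (Subgroup.subgroupOfEquivOfLe (stab_succ_le k.val)).toEquiv
  haveI : Finite H := Finite.of_equiv _ e.symm
  haveI : Finite (stab k) := Finite.of_equiv ((stab k ⧸ H) × H) Subgroup.groupEquivQuotientProdSubgroup.symm
  refine ⟨inferInstance, ?_⟩
  rw [← H.card_mul_index, Nat.card_congr e, mul_comm]
  exact Nat.mul_le_mul hidx hm'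

/-- The order bound. -/
theorem card_fourRu_le : Finite Spor.fourRu ∧ Nat.card Spor.fourRu ≤ 583704576000 := by
  have hC : ∀ (k : Fin 6), k.val ≠ 0 → ∀ a ∈ minList, sameProfile (baseAt k) k a = true →
      a ∈ cands (baseAt k) k ∧ (headOf (baseAt k) = headOf (baseAt 1) → a ∈ candsOne (baseAt k) k) := by
    intro k hk a ha hp
    exact mem_cands (Nat.pos_of_ne_zero hk) ha hp (base_kind k) (head_bound.1 k)
  have h6 : Finite (stab 6) ∧ Nat.card (stab 6) ≤ 1 := by
    rw [stab_six]
    exact ⟨inferInstance, by simp⟩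
  have hd := base_data
  have h5 : Finite (stab 5) ∧ Nat.card (stab 5) ≤ (candsOne (baseAt 5) 5).length * 1 := card_step 5 _ (fun a ha hp => (hC 5 (by decide) a ha hp).2 ((hd 5).2.2 (by decide) (by decide)).2) h6.1 h6.2
  rw [Nat.eq_of_beq_eq_true count_five] at h5
  have h4 : Finite (stab 4) ∧ Nat.card (stab 4) ≤ (cands (baseAt 4) 4).length * (4 * 1) := card_step 4 _ (fun a ha hp => (hC 4 (by decide) a ha hp).1) h5.1 h5.2
  rw [Nat.eq_of_beq_eq_true count_four] at h4
  have h3 : Finite (stab 3) ∧ Nat.card (stab 3) ≤ (candsOne (baseAt 3) 3).length * (25 * (4 * 1)) := card_step 3 _ (fun a ha hp => (hC 3 (by decide) a ha hp).2 ((hd 3).2.2 (by decide) (by decide)).2) h4.1 h4.2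
  rw [Nat.eq_of_beq_eq_true count_three] at h3
  have h2 : Finite (stab 2) ∧ Nat.card (stab 2) ≤ (candsOne (baseAt 2) 2).length * (2 * (25 * (4 * 1))) := card_step 2 _ (fun a ha hp => (hC 2 (by decide) a ha hp).2 ((hd 2).2.2 (by decide) (by decide)).2) h3.1 h3.2
  rw [Nat.eq_of_beq_eq_true count_two] at h2
  have h1 : Finite (stab 1) ∧ Nat.card (stab 1) ≤ (candsOne (baseAt 1) 1).length * (78 * (2 * (25 * (4 * 1)))) := card_step 1 _ (fun a ha hp => (hC 1 (by decide) a ha hp).2 rfl) h2.1 h2.2
  rw [Nat.eq_of_beq_eq_true count_one] at h1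
  have h0 := card_step 0 minList (fun a ha _ => ha) h1.1 h1.2
  rw [show minList.length = 16240 by
    rw [minList_eq, List.length_append, List.length_map]; exact Nat.eq_of_beq_eq_true minList_count] at h0
  have htop : stab ((0 : Fin 6) : ℕ) = ⊤ := by
    refine eq_top_iff.2 fun g _ j hj => absurd hj (Nat.not_lt_zero _)
  rw [htop] at h0
  haveI := h0.1
  refine ⟨Finite.of_equiv _ Subgroup.topEquiv.toEquiv, ?_⟩
  rw [← Nat.card_congr Subgroup.topEquiv.toEquiv]
  exact h0.2

end CfsgLib.Sporadic.RuLink
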