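import Cfsg.Agent.Lib.Sporadic.RuLink.WordChecks

/-!
# The minimal vectors of the Rudvalis lattice

Modulo two the lattice gives a code of dimension `19` whose words of weight at most `16` are known,
so every vector of norm `16` is one of a listed set of `16240`.
-/

set_option autoImplicit false
set_option maxRecDepth 100000

namespace CfsgLib.Sporadic.RuLink

open Cfsg Finset
open CfsgLib.Sporadic
open CfsgLib.Sporadic.Rudvalis (flatZ inW gv bitn ip_zero red_mem_W4 inW_sound ruNorm_eq_flat)

/-- A bit in `F₂`. -/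
def bb (b : Bool) : ZMod 2 := if b then 1 else 0

theorem bb_xor (a b : Bool) : bb (a ^^ b) = bb a + bb b := by revert a b; decide

theorem bb_inj : ∀ {a b : Bool}, bb a = bb b → a = b := by decide

/-- Twice. -/
def dbl2 : ZMod 2 →+ ZMod 4 where
  toFun x := 2 * (x.val : ZMod 4)
  map_zero' := by decide
  map_add' := by decide

theorem dbl2_inj : ∀ {x : ZMod 2}, dbl2 x = 0 → x = 0 := by decide

theorem dbl2_int (n : ℤ) : 2 * (n : ZMod 4) = dbl2 (n : ZMod 2) := by
  obtain ⟨q, r, hr, hr2, rfl⟩ : ∃ q r : ℤ, 0 ≤ r ∧ r < 2 ∧ n = 2 * q + r :=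
    ⟨n / 2, n % 2, by omega, by omega, by omega⟩
  push_cast
  rw [show (2 : ZMod 2) = 0 from by decide, zero_mul, zero_add, mul_add, ← mul_assoc,
    show (2 : ZMod 4) * 2 = 0 from by decide, zero_mul, zero_add]
  obtain rfl | rfl : r = 0 ∨ r = 1 := by omega
  all_goals decide

theorem two_gv (a : ℕ × ℕ) (c : ℕ) : 2 * (gv a c : ZMod 4) = dbl2 (bb (a.1.testBit c)) := by
  simp only [gv, bitn]
  cases a.1.testBit c <;> cases a.2.testBit c <;> decide

/-- Parity of a coordinate. -/
def f2 (v : Spor.RuVec) (c : Fin 56) : ZMod 2 := (flatZ v c : ZMod 2)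

/-- The parity of a set of coordinates. -/
def FF (v : Spor.RuVec) (e : ℕ) : ZMod 2 := ∑ c : Fin 56, bb (e.testBit c) * f2 v c

theorem four_flat {v : Spor.RuVec} (hv : v ∈ Spor.ruLattice) {a : ℕ × ℕ} (ha : inW a = true) :
    (∑ c : Fin 56, (flatZ v c : ZMod 4) * (gv a c : ZMod 4)) = 0 :=
  ip_zero (red_mem_W4 hv) (inW_sound ha)

theorem FF_zero {v : Spor.RuVec} (hv : v ∈ Spor.ruLattice) {e : ℕ} (he : inW (0, e) = true) :
    FF v e = 0 := by
  refine dbl2_inj ?_
  rw [FF, map_sum, ← four_flat hv he]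
  refine sum_congr rfl fun c _ => ?_
  have : (gv (0, e) c : ZMod 4) = 2 * ((e.testBit c).toNat : ZMod 4) := by
    simp [gv, bitn]
  rw [this, ← mul_assoc, mul_comm _ (2 : ZMod 4), dbl2_int]
  cases e.testBit c <;> simp [bb, f2]

theorem FF_xor (v : Spor.RuVec) (a b : ℕ) : FF v (a ^^^ b) = FF v a + FF v b := by
  simp [FF, bb_xor, add_mul, sum_add_distrib]

theorem FF_bit (v : Spor.RuVec) (k : ℕ) (hk : k < 56) : FF v (1 <<< k) = f2 v ⟨k, hk⟩ := by
  rw [FF, Finset.sum_eq_single ⟨k, hk⟩]
  · simp [bb]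
  · intro c _ hc
    have : k ≠ c.val := fun e => hc (Fin.ext e.symm)
    simp [bb, Nat.shiftLeft_eq, Nat.testBit_two_pow, this]
  · simp

/-- The free coordinates selected by `g`. -/
noncomputable def freeMask (g n : ℕ) : ℕ :=
  Nat.rec 0 (fun i acc => cond (bit0 g i) (Nat.xor acc (Nat.shiftLeft 1 (Data.freePos.getD i 0))) acc) n

theorem free_lt : ∀ i, Data.freePos.getD i 0 < 56 := by
  intro i
  rcases lt_or_ge i 19 with h | h
  · exact (show ∀ i : Fin 19, Data.freePos.getD i 0 < 56 by decide +kernel) ⟨i, h⟩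
  · rw [List.getD_eq_default _ _ (by simpa [Data.freePos] using h)]; norm_num

theorem FF_freeMask (v : Spor.RuVec) (g : ℕ) : ∀ n, FF v (freeMask g n) =
    ∑ i ∈ range n, bb (g.testBit i) * f2 v ⟨Data.freePos.getD i 0, free_lt i⟩
  | 0 => by simp [freeMask, FF, bb]
  | n + 1 => by
    rw [sum_range_succ, ← FF_freeMask v g n]
    show FF v (cond (bit0 g n) (freeMask g n ^^^ 1 <<< _) (freeMask g n)) = _
    rw [bit0_eq]
    cases g.testBit n
    · simp [bb]
    · simp only [cond_true, FF_xor, FF_bit v _ (free_lt n)]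
      simp [bb]

theorem bb_par (g m : ℕ) : ∀ n, bb (par g m n) = ∑ i ∈ range n, bb (g.testBit i) * bb (m.testBit i)
  | 0 => by simp [par, bb]
  | n + 1 => by
    rw [sum_range_succ, ← bb_par g m n, par_succ, bb_xor, add_comm]
    congr 1
    cases g.testBit n <;> cases m.testBit n <;> decide

theorem row_data : ∀ i : Fin 19, inW (aRow i) = true ∧
    ∀ c : Fin 56, (aRow i).1.testBit c = (Data.gCol.getD c 0).testBit i := by
  decide +kernel

theorem check_data : ∀ c : Fin 56, inW (0, Data.eRows.getD c 0) = true ∧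
    Data.eRows.getD c 0 = Nat.xor (Nat.shiftLeft 1 c) (freeMask (Data.gCol.getD c 0) 19) ∧
    Data.gCol.getD c 0 < 2 ^ 19 := by
  decide +kernel

theorem testBit_wordOf (m : ℕ) (c : Fin 56) : ∀ n ≤ 19,
    (wordOf m n).testBit c = par (Data.gCol.getD c 0) m n
  | 0, _ => Nat.zero_testBit _
  | n + 1, h => by
    rw [par_succ, ← testBit_wordOf m c n (by omega)]
    show (cond (bit0 m n) (wordOf m n ^^^ (aRow n).1) (wordOf m n)).testBit c = _
    rw [bit0_eq]
    have := (row_data ⟨n, by omega⟩).2 c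
    simp only at this
    cases m.testBit n
    · simp
    · simp [Nat.testBit_xor, this, Bool.xor_comm]

theorem sq_ge_parity (z : ℤ) (b : Bool) (h : (z : ZMod 2) = bb b) : (b.toNat : ℤ) ≤ z ^ 2 := by
  cases b
  · simpa using sq_nonneg z
  · have : z ≠ 0 := by rintro rfl; simp [bb] at h
    have : 0 < z ^ 2 := by positivity
    simpa using Int.add_one_le_iff.2 this

/-- The parity word of a vector of norm at most `16`. -/
theorem exists_word {v : Spor.RuVec} (hv : v ∈ Spor.ruLattice) (hn : Spor.ruNorm v = 16) :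
    ∃ w ∈ Data.words, wordOK w = true ∧ ∀ c : Fin 56, f2 v c = bb (w.2.1.testBit c) := by
  obtain ⟨m, hm, hbits⟩ : ∃ m, m < 2 ^ 19 ∧ ∀ i : Fin 19,
      bb (m.testBit i) = f2 v ⟨Data.freePos.getD i 0, free_lt i⟩ := by
    refine ⟨Nat.ofBits fun i : Fin 19 => decide (f2 v ⟨Data.freePos.getD i 0, free_lt i⟩ = 1),
      Nat.ofBits_lt_two_pow _, fun i => ?_⟩
    rw [Nat.testBit_ofBits_lt _ _ i.isLt]
    generalize f2 v ⟨Data.freePos.getD i 0, free_lt i⟩ = a
    revert a
    decide
  have hf : ∀ c : Fin 56, f2 v c = bb (par (Data.gCol.getD c 0) m 19) := by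
    intro c
    obtain ⟨h1, h2, -⟩ := check_data c
    have h := FF_zero hv h1
    rw [h2, show Nat.xor (Nat.shiftLeft 1 c) (freeMask (Data.gCol.getD c 0) 19) =
      (1 <<< (c : ℕ)) ^^^ freeMask (Data.gCol.getD c 0) 19 from rfl, FF_xor, FF_bit v _ c.isLt,
      FF_freeMask] at h
    have e : ∀ a b : ZMod 2, a + b = 0 → a = b := by decide
    rw [e _ _ h, bb_par]
    refine sum_congr rfl fun i hi => ?_
    rw [← hbits ⟨i, mem_range.1 hi⟩]
  have hcount : (∑ c ∈ range 56, ((colW c).testBit m).toNat) ≤ 16 := by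
    have : ((∑ c ∈ range 56, ((colW c).testBit m).toNat : ℕ) : ℤ) ≤ 16 := by
      rw [← hn, ruNorm_eq_flat, Finset.sum_range]
      push_cast
      refine sum_le_sum fun c _ => ?_
      rw [colW, testBit_xorSel 19 _ 19 m le_rfl hm]
      exact sq_ge_parity _ _ (hf c)
    exact_mod_cast this
  have hcov := congrArg (fun n => n.testBit m) (Nat.eq_of_beq_eq_true words_cover)
  beta_reduce at hcov
  rw [testBit_ones, decide_eq_true (show m < Nat.pow 2 19 from hm)] at hcov
  rw [show ∀ a b, Nat.lor a b = a ||| b from fun _ _ => rfl, Nat.testBit_or, Bool.or_eq_true,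
    (thr_spec 19 17 colW 56).2 16 (by norm_num) m hm, decide_eq_true_eq] at hcov
  rcases hcov with h | h
  · omega
  obtain ⟨w, hw, rfl⟩ := List.mem_map.1 (mem_of_testBit_listMask h)
  obtain ⟨hok, hright⟩ := words_ok hw
  refine ⟨w, hw, hok, fun c => ?_⟩
  rw [hf, ← Nat.eq_of_beq_eq_true hright, testBit_wordOf _ _ 19 le_rfl]

/-- The equation of one check for a vector that is odd exactly at the listed coordinates. -/
theorem check_eq {v : Spor.RuVec} (hv : v ∈ Spor.ruLattice) {a : ℕ × ℕ} (ha : inW a = true)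
    {k : ℕ} (pos : Fin k → Fin 56) (hpos : Function.Injective pos) (s : Fin k → Bool)
    (g : Fin 56 → ℤ) (hs : ∀ j, (flatZ v (pos j) : ZMod 4) = 1 + 2 * ((s j).toNat : ZMod 4))
    (hout : ∀ c, (∀ j, pos j ≠ c) → flatZ v c = 2 * g c) :
    ((∑ j, gv a (pos j) : ℕ) : ZMod 4) + dbl2 ((∑ j, bb (a.1.testBit (pos j)) * bb (s j)) +
      ∑ c ∈ univ.filter (fun c => ∀ j, pos j ≠ c), bb (a.1.testBit c) * (g c : ZMod 2)) = 0 := by
  have h := four_flat hv ha
  rw [← sum_filter_add_sum_filter_not univ (fun c => ∀ j, pos j ≠ c)] at h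
  have e : univ.filter (fun c => ¬ ∀ j, pos j ≠ c) = univ.image pos := by
    ext c; simp
  rw [e, sum_image fun x _ y _ hxy => hpos hxy] at h
  rw [← h, map_add, map_sum, map_sum, ← add_assoc, Nat.cast_sum, ← sum_add_distrib, add_comm]
  congr 1
  · refine sum_congr rfl fun c hc => ?_
    rw [hout c (mem_filter.1 hc).2, Int.cast_mul, Int.cast_ofNat, mul_assoc,
      mul_comm (g c : ZMod 4), ← mul_assoc, two_gv]
    cases a.1.testBit c
    · simp [bb]
    · rw [show dbl2 (bb true) = 2 by decide, dbl2_int]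
      simp [bb]
  · refine sum_congr rfl fun j _ => ?_
    rw [hs j, add_mul, one_mul]
    congr 1
    rw [mul_assoc, mul_comm ((s j).toNat : ZMod 4), ← mul_assoc, two_gv]
    cases a.1.testBit (pos j) <;> cases s j <;> decide

theorem solve_check (N : ℕ) (b : ZMod 2) (h : (N : ZMod 4) + dbl2 b = 0) :
    b = if Nat.beq (N % 4) 2 then 1 else 0 := by
  rw [← ZMod.natCast_mod N 4] at h
  have h4 := Nat.mod_lt N (show 4 > 0 by norm_num)
  generalize N % 4 = r at h h4 ⊢
  interval_cases r <;> revert b <;> decide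

theorem gvN_eq (a : ℕ × ℕ) (c : ℕ) : gvN a c = gv a c := by
  show cond (bit0 a.1 c) 1 0 + cond (bit0 a.2 c) 2 0 = _
  rw [bit0_eq, bit0_eq]
  simp only [gv, bitn]
  cases a.1.testBit c <;> cases a.2.testBit c <;> rfl

/-! ### Weight sixteen -/

theorem pickSum_eq (a : ℕ × ℕ) (P : ℕ) : ∀ n, pickSum a P n = ∑ j : Fin n, gv a (posAt P j)
  | 0 => rfl
  | n + 1 => by
    rw [Fin.sum_univ_castSucc]
    show pickSum a P n + gvN a (posAt P n) = _
    rw [pickSum_eq a P n, gvN_eq]
    rfl

theorem testBit_pickMask (a P : ℕ) : ∀ n j, (pickMask a P n).testBit j = (decide (j < n) && a.testBit (posAt P j))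
  | 0, j => by simp [pickMask]
  | n + 1, j => by
    show (cond (bit0 a (posAt P n)) (pickMask a P n ||| 1 <<< n) (pickMask a P n)).testBit j = _
    rw [bit0_eq]
    rcases hb : a.testBit (posAt P n) with _ | _
    · rw [cond_false, testBit_pickMask a P n j]
      rcases eq_or_ne j n with rfl | hj
      · simp [hb]
      · congr 2; simp; omega
    · rw [cond_true, Nat.testBit_or, testBit_pickMask a P n j, Nat.shiftLeft_eq, one_mul, Nat.testBit_two_pow]
      rcases eq_or_ne j n with rfl | hj
      · simp [hb]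
      · simp only [decide_eq_false (Ne.symm hj), Bool.or_false]
        congr 2; simp; omega

theorem testBit_posMask (P : ℕ) : ∀ n c, (posMask P n).testBit c = true ↔ ∃ j < n, posAt P j = c
  | 0, c => by simp [posMask]
  | n + 1, c => by
    show ((posMask P n) ||| 1 <<< posAt P n).testBit c = true ↔ _
    rw [Nat.testBit_or, Bool.or_eq_true, testBit_posMask P n c, Nat.shiftLeft_eq, one_mul,
      Nat.testBit_two_pow, decide_eq_true_eq]
    constructor
    · rintro (⟨j, hj, e⟩ | e)
      · exact ⟨j, by omega, e⟩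
      · exact ⟨n, by omega, e⟩
    · rintro ⟨j, hj, e⟩
      rcases Nat.lt_succ_iff_lt_or_eq.1 hj with h | rfl
      · exact .inl ⟨j, h, e⟩
      · exact .inr e

theorem posAt_inj {P : ℕ} (h : posSorted P = true) {i j : ℕ} (hij : i < j) (hj : j < 16) :
    posAt P i < posAt P j := by
  induction j with
  | zero => omega
  | succ j ih =>
    have h1 := Nat.le_of_ble_eq_true (forallLt_elim h (show j < 15 by omega))
    rcases Nat.lt_succ_iff_lt_or_eq.1 hij with h2 | rfl
    · exact lt_trans (ih h2 (by omega)) h1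
    · exact h1

/-- The coded vector with given negative positions. -/
noncomputable def negMask (P s : ℕ) (n : ℕ) : ℕ :=
  Nat.rec 0 (fun j acc => cond (bit0 s j) (Nat.lor acc (Nat.shiftLeft 1 (posAt P j))) acc) n

/-- The coded vector of a sign pattern. -/
noncomputable def signCode (x P s : ℕ) : Code := (1, Nat.xor x (negMask P s 16), negMask P s 16)

theorem testBit_negMask (P s : ℕ) : ∀ n c, (negMask P s n).testBit c = true ↔
    ∃ j < n, posAt P j = c ∧ s.testBit j = true
  | 0, c => by simp [negMask]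
  | n + 1, c => by
    show (cond (bit0 s n) (negMask P s n ||| 1 <<< posAt P n) (negMask P s n)).testBit c = true ↔ _
    rw [bit0_eq]
    constructor
    · intro h
      rcases hb : s.testBit n with _ | _ <;> rw [hb] at h
      · obtain ⟨j, hj, e⟩ := (testBit_negMask P s n c).1 h
        exact ⟨j, by omega, e⟩
      · rw [cond_true, Nat.testBit_or, Bool.or_eq_true, testBit_negMask P s n c, Nat.shiftLeft_eq,
          one_mul, Nat.testBit_two_pow, decide_eq_true_eq] at h
        rcases h with ⟨j, hj, e⟩ | e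
        · exact ⟨j, by omega, e⟩
        · exact ⟨n, by omega, e, hb⟩
    · rintro ⟨j, hj, e, hs⟩
      rcases Nat.lt_succ_iff_lt_or_eq.1 hj with h | rfl
      · have h' := (testBit_negMask P s n c).2 ⟨j, h, e, hs⟩
        cases s.testBit n <;> simp [Nat.testBit_or, h']
      · simp [hs, Nat.testBit_or, Nat.shiftLeft_eq, Nat.testBit_two_pow, e]

theorem satAll_bit : ∀ (l : List (ℕ × ℕ)) (P s : ℕ), s < 2 ^ 16 →
    (∀ a ∈ l, par (pickMask a.1 P 16) s 16 = Nat.beq (pickSum a P 16 % 4) 2) →
    (satAll l P).testBit s = true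
  | [], P, s, hs, _ => by
    show full16.testBit s = true
    rw [full16, testBit_ones]; exact decide_eq_true hs
  | a :: l, P, s, hs, h => by
    show (satOne a P &&& satAll l P).testBit s = true
    rw [Nat.testBit_and, satAll_bit l P s hs fun b hb => h b (List.mem_cons_of_mem _ hb), Bool.and_true]
    have ha := h a List.mem_cons_self
    show (cond (Nat.beq (pickSum a P 16 % 4) 2) (xorSel 16 (pickMask a.1 P 16) 16)
      (xorSel 16 (pickMask a.1 P 16) 16 ^^^ full16)).testBit s = true
    rcases hb : Nat.beq (pickSum a P 16 % 4) 2 with _ | _ <;> rw [hb] at ha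
    · rw [cond_false, Nat.testBit_xor, testBit_xorSel 16 _ 16 s le_rfl hs, ha, full16, testBit_ones,
        decide_eq_true (show s < Nat.pow 2 16 from hs)]
      rfl
    · rw [cond_true, testBit_xorSel 16 _ 16 s le_rfl hs, ha]

theorem rows_inW {a : ℕ × ℕ} (h : a ∈ Data.aRows) : inW a = true := by
  obtain ⟨i, hi, rfl⟩ := List.getElem_of_mem h
  have := (row_data ⟨i, by simpa [Data.aRows] using hi⟩).1
  simpa [aRow, List.getD_eq_getElem, hi] using this

theorem pm_one {z : ℤ} (h : z ^ 2 = 1) : z = 1 ∨ z = -1 := sq_eq_one_iff.1 h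

/-- A vector of weight `16` is a listed sign pattern. -/
theorem units_case {v : Spor.RuVec} (hv : v ∈ Spor.ruLattice) (hn : Spor.ruNorm v = 16) {x P : ℕ}
    {sols : List ℕ} (hs : posSorted P = true) (hx : posMask P 16 = x)
    (hsat : satAll Data.aRows P = listMask sols) (hpar : ∀ c : Fin 56, f2 v c = bb (x.testBit c))
    (hP : ∀ j < 16, posAt P j < 56) : ∃ s ∈ sols, v = cvec (signCode x P s) := by
  let pos : Fin 16 → Fin 56 := fun j => ⟨posAt P j, hP j j.isLt⟩
  have hinj : Function.Injective pos := by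
    intro i j e
    have e' : posAt P i = posAt P j := congrArg Fin.val e
    by_contra hne
    rcases Nat.lt_or_gt_of_ne (fun he => hne (Fin.ext he)) with h | h
    · exact absurd e' (posAt_inj hs h j.isLt).ne
    · exact absurd e' (posAt_inj hs h i.isLt).ne'
  have hxbit : ∀ c : Fin 56, x.testBit c = true ↔ ∃ j, pos j = c := by
    intro c
    rw [← hx, testBit_posMask]
    constructor
    · rintro ⟨j, hj, e⟩; exact ⟨⟨j, hj⟩, Fin.ext e⟩
    · rintro ⟨j, e⟩; exact ⟨j, j.isLt, congrArg Fin.val e⟩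
  rw [ruNorm_eq_flat, ← sum_filter_add_sum_filter_not univ (fun c => ∃ j, pos j = c)] at hn
  have hodd : ∀ c, (∃ j, pos j = c) → 1 ≤ flatZ v c ^ 2 := fun c hc => by
    have := sq_ge_parity (flatZ v c) true (by show f2 v c = _; rw [hpar, (hxbit c).2 hc])
    simpa using this
  have himg : univ.filter (fun c => ∃ j, pos j = c) = univ.image pos := by ext c; simp
  have hA : (16 : ℤ) ≤ ∑ c ∈ univ.filter (fun c => ∃ j, pos j = c), flatZ v c ^ 2 := by
    rw [himg, sum_image fun x _ y _ h => hinj h]
    refine le_trans (le_of_eq ?_) (sum_le_sum fun j _ => hodd _ ⟨j, rfl⟩)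
    simp
  have hB : (0 : ℤ) ≤ ∑ c ∈ univ.filter (fun c => ¬∃ j, pos j = c), flatZ v c ^ 2 :=
    sum_nonneg fun c _ => sq_nonneg _
  have hzero : ∀ c, (¬∃ j, pos j = c) → flatZ v c = 0 := by
    intro c hc
    have := (sum_eq_zero_iff_of_nonneg fun c _ => sq_nonneg (flatZ v c)).1 (le_antisymm (by linarith) hB)
      c (mem_filter.2 ⟨mem_univ _, hc⟩)
    exact sq_eq_zero_iff.1 this
  have hunit : ∀ j, flatZ v (pos j) = 1 ∨ flatZ v (pos j) = -1 := by
    intro j
    refine pm_one (le_antisymm ?_ (hodd _ ⟨j, rfl⟩))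
    by_contra hlt
    push Not at hlt
    have : (16 : ℤ) < ∑ c ∈ univ.filter (fun c => ∃ j, pos j = c), flatZ v c ^ 2 := by
      rw [himg, sum_image fun x _ y _ h => hinj h]
      refine lt_of_eq_of_lt ?_ (sum_lt_sum (s := univ) (f := fun _ => (1 : ℤ))
        (fun i _ => hodd _ ⟨i, rfl⟩) ⟨j, mem_univ _, hlt⟩)
      simp
    linarith
  obtain ⟨s, hs16, hsbit⟩ : ∃ s, s < 2 ^ 16 ∧ ∀ j : Fin 16,
      s.testBit j = decide (flatZ v (pos j) = -1) :=
    ⟨Nat.ofBits fun j : Fin 16 => decide (flatZ v (pos j) = -1), Nat.ofBits_lt_two_pow _,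
      fun j => Nat.testBit_ofBits_lt (fun j : Fin 16 => decide (flatZ v (pos j) = -1)) j j.isLt⟩
  refine ⟨s, ?_, ext_flat fun c => ?_⟩
  · refine mem_of_testBit_listMask (hsat ▸ satAll_bit _ P s hs16 fun a ha => bb_inj ?_)
    have h := check_eq hv (rows_inW ha) pos hinj (fun j => s.testBit j) (fun _ => 0)
      (fun j => by rcases hunit j with e | e <;> simp only [hsbit, e] <;> decide)
      (fun c hc => by rw [hzero c (fun ⟨j, e⟩ => hc j e), mul_zero])
    simp only [Int.cast_zero, mul_zero, sum_const_zero, add_zero] at h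
    have h2 := solve_check _ _ h
    rw [bb_par, Finset.sum_range]
    rw [show (∑ j : Fin 16, gv a (pos j)) = pickSum a P 16 from (pickSum_eq a P 16).symm] at h2
    have h3 : ∀ j : Fin 16, bb ((pickMask a.1 P 16).testBit j) = bb (a.1.testBit (pos j)) := fun j => by
      rw [testBit_pickMask, decide_eq_true j.isLt, Bool.true_and]
    simp only [h3, h2]
    cases Nat.beq (pickSum a P 16 % 4) 2 <;> rfl
  · rw [flatZ_cvec]
    show _ = ((1 : ℕ) : ℤ) * ((((x ^^^ negMask P s 16).testBit c).toNat : ℤ) - (((negMask P s 16).testBit c).toNat : ℤ))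
    by_cases hc : ∃ j, pos j = c
    · obtain ⟨j, rfl⟩ := hc
      have hN : (negMask P s 16).testBit (pos j) = s.testBit j := by
        rw [Bool.eq_iff_iff, testBit_negMask]
        constructor
        · rintro ⟨i, hi, e, hb⟩
          have := hinj (a₁ := ⟨i, hi⟩) (a₂ := j) (Fin.ext e)
          subst this; exact hb
        · intro hb; exact ⟨j, j.isLt, rfl, hb⟩
      rw [Nat.testBit_xor, hN, (hxbit (pos j)).2 ⟨j, rfl⟩, hsbit]
      rcases hunit j with e | e <;> rw [e] <;> decide
    · have hN : (negMask P s 16).testBit c = false := by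
        rw [Bool.eq_false_iff, Ne, testBit_negMask]
        rintro ⟨i, hi, e, -⟩
        exact hc ⟨⟨i, hi⟩, Fin.ext e⟩
      have hX : x.testBit c = false := by rw [Bool.eq_false_iff]; exact fun h => hc ((hxbit c).1 h)
      rw [Nat.testBit_xor, hN, hX, hzero c hc]
      rfl

/-! ### Even parities -/

theorem sq_mod_four (z : ℤ) : ∃ q, z ^ 2 = 4 * q + (if (z : ZMod 2) = 1 then 1 else 0) := by
  rcases Int.even_or_odd' z with ⟨k, rfl | rfl⟩
  · exact ⟨k ^ 2, by push_cast; rw [show (2 : ZMod 2) = 0 from by decide]; simp; ring⟩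
  · exact ⟨k ^ 2 + k, by push_cast; rw [show (2 : ZMod 2) = 0 from by decide]; simp; ring⟩

theorem exists_half (z : ℤ) (h : (z : ZMod 2) = 0) : ∃ a, z = 2 * a := by
  obtain ⟨a, ha⟩ := (ZMod.intCast_zmod_eq_zero_iff_dvd z 2).1 h
  exact ⟨a, by exact_mod_cast ha⟩

theorem odd_card {ι : Type*} (S : Finset ι) (a : ι → ℤ) :
    ∃ q, ∑ c ∈ S, a c ^ 2 = 4 * q + ((S.filter fun c => (a c : ZMod 2) = 1).card : ℤ) := by
  choose q hq using fun c => sq_mod_four (a c)
  refine ⟨∑ c ∈ S, q c, ?_⟩
  rw [mul_sum, Finset.card_filter, Nat.cast_sum, ← sum_add_distrib]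
  refine sum_congr rfl fun c _ => (hq c).trans ?_
  split_ifs <;> simp

theorem odd_card_le {ι : Type*} (S : Finset ι) (a : ι → ℤ) :
    ((S.filter fun c => (a c : ZMod 2) = 1).card : ℤ) ≤ ∑ c ∈ S, a c ^ 2 := by
  rw [Finset.card_filter, Nat.cast_sum]
  refine sum_le_sum fun c _ => ?_
  split_ifs with h
  · have : a c ≠ 0 := fun e => by simp [e] at h
    have : 0 < a c ^ 2 := by positivity
    simpa using Int.add_one_le_iff.2 this
  · simp; positivity

/-- The check of the pair numbered `q`. -/
noncomputable def syn (q : ℕ) : ℕ :=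
  Nat.xor (Data.gCol.getD (Nat.div q 56) 0) (Data.gCol.getD (Nat.mod q 56) 0)

theorem synAcc_spec : ∀ n, (synAcc n).2 = true →
    (∀ q < n, q / 56 < q % 56 → (synAcc n).1.testBit (syn q) = true) ∧
      ∀ q q', q < q' → q' < n → q / 56 < q % 56 → q' / 56 < q' % 56 → syn q ≠ syn q'
  | 0, _ => ⟨fun q h => absurd h (Nat.not_lt_zero q), fun q q' _ h => absurd h (Nat.not_lt_zero q')⟩
  | n + 1, h => by
    have e : synAcc (n + 1) = cond (Nat.blt (n / 56) (n % 56))
        ((synAcc n).1 ||| 1 <<< syn n, (synAcc n).2 && !bit0 (synAcc n).1 (syn n)) (synAcc n) := rfl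
    by_cases hb : n / 56 < n % 56
    · rw [e, show Nat.blt (n / 56) (n % 56) = true from Nat.ble_eq_true_of_le hb, cond_true] at h ⊢
      simp only [Bool.and_eq_true, Bool.not_eq_true', bit0_eq] at h
      obtain ⟨h1, h2⟩ := synAcc_spec n h.1
      constructor
      · intro q hq hqv
        rw [Nat.testBit_or]
        rcases Nat.lt_succ_iff_lt_or_eq.1 hq with hlt | rfl
        · simp [h1 q hlt hqv]
        · simp [Nat.shiftLeft_eq]
      · intro q q' hqq hq' hv hv'
        rcases Nat.lt_succ_iff_lt_or_eq.1 hq' with hlt | rfl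
        · exact h2 q q' hqq hlt hv hv'
        · intro e'
          have := h1 q hqq hv
          rw [e', h.2] at this
          exact Bool.false_ne_true this
    · rw [e, show Nat.blt (n / 56) (n % 56) = false from
        Bool.eq_false_iff.2 fun hh => hb (Nat.le_of_ble_eq_true hh), cond_false] at h ⊢
      obtain ⟨h1, h2⟩ := synAcc_spec n h
      constructor
      · intro q hq hqv
        rcases Nat.lt_succ_iff_lt_or_eq.1 hq with hlt | rfl
        · exact h1 q hlt hqv
        · exact absurd hqv hb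
      · intro q q' hqq hq' hv hv'
        rcases Nat.lt_succ_iff_lt_or_eq.1 hq' with hlt | rfl
        · exact h2 q q' hqq hlt hv hv'
        · exact absurd hv' hb

theorem pairs_distinct {a b c d : Fin 56} (h1 : a < b) (h2 : c < d) (hne : a ≠ c)
    (h : Data.gCol.getD a 0 ^^^ Data.gCol.getD b 0 = Data.gCol.getD c 0 ^^^ Data.gCol.getD d 0) : False := by
  have key : ∀ x y : Fin 56, (56 * x.val + y.val) / 56 = x.val ∧ (56 * x.val + y.val) % 56 = y.val :=
    fun x y => ⟨by omega, by omega⟩
  have hs : ∀ x y : Fin 56, syn (56 * x.val + y.val) = Data.gCol.getD x 0 ^^^ Data.gCol.getD y 0 := by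
    intro x y
    show Data.gCol.getD ((56 * x.val + y.val) / 56) 0 ^^^ Data.gCol.getD ((56 * x.val + y.val) % 56) 0 = _
    rw [(key x y).1, (key x y).2]
  have hv : ∀ {x y : Fin 56}, x < y → (56 * x.val + y.val) / 56 < (56 * x.val + y.val) % 56 := by
    intro x y hxy; rw [(key x y).1, (key x y).2]; exact hxy
  have hne' : a.val ≠ c.val := fun e => hne (Fin.ext e)
  rw [← hs, ← hs] at h
  rcases Nat.lt_or_gt_of_ne hne' with hl | hl
  · exact (synAcc_spec 3136 syn_distinct).2 _ _ (by omega) (by omega) (hv h1) (hv h2) h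
  · exact (synAcc_spec 3136 syn_distinct).2 _ _ (by omega) (by omega) (hv h2) (hv h1) h.symm

theorem no_quad (T : Finset (Fin 56)) (hT : T.card = 4)
    (h : ∀ i : Fin 19, ∑ c ∈ T, bb ((Data.gCol.getD c 0).testBit i) = 0) : False := by
  let e := T.orderIsoOfFin hT
  let x : Fin 4 → Fin 56 := fun i => (e i).1
  have hx : StrictMono x := fun i j hij => e.strictMono hij
  refine pairs_distinct (hx (show (0 : Fin 4) < 1 by decide)) (hx (show (2 : Fin 4) < 3 by decide))
    (hx (show (0 : Fin 4) < 2 by decide)).ne ?_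
  refine Nat.eq_of_testBit_eq fun i => ?_
  rw [Nat.testBit_xor, Nat.testBit_xor]
  rcases lt_or_ge i 19 with hi | hi
  · have hT' : T = univ.image x := by
      ext c
      simp only [mem_image, mem_univ, true_and]
      constructor
      · intro hc; exact ⟨e.symm ⟨c, hc⟩, by simp [x]⟩
      · rintro ⟨j, rfl⟩; exact (e j).2
    have := h ⟨i, hi⟩
    rw [hT', sum_image (fun p _ q _ hpq => hx.injective hpq), Fin.sum_univ_four] at this
    refine bb_inj ?_
    rw [bb_xor, bb_xor]
    have key : ∀ p q r s : ZMod 2, p + q + r + s = 0 → p + q = r + s := by decide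
    exact key _ _ _ _ this
  · have hz : ∀ c : Fin 56, (Data.gCol.getD c 0).testBit i = false := fun c =>
      Nat.testBit_lt_two_pow (lt_of_lt_of_le (check_data c).2.2 (Nat.pow_le_pow_right (by norm_num) hi))
    rw [hz, hz, hz, hz]

/-- A vector with all coordinates even is four times a unit vector. -/
theorem zero_case {v : Spor.RuVec} (hv : v ∈ Spor.ruLattice) (hn : Spor.ruNorm v = 16)
    (hpar : ∀ c, f2 v c = 0) :
    ∃ c : Fin 56, (v = cvec (fourCode c) ∨ v = cvec (4, 0, Nat.shiftLeft 1 c)) := by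
  choose a ha using fun c => exists_half (flatZ v c) (hpar c)
  have h4 : ∑ c, a c ^ 2 = 4 := by
    rw [ruNorm_eq_flat] at hn
    simp only [ha, mul_pow] at hn
    rw [← mul_sum] at hn
    linarith
  obtain ⟨q, hq⟩ := odd_card univ a
  have hle := odd_card_le univ a
  rw [h4] at hq hle
  obtain hk | hk : (univ.filter fun c => (a c : ZMod 2) = 1).card = 0 ∨
      (univ.filter fun c => (a c : ZMod 2) = 1).card = 4 := by omega
  · have heven : ∀ c, (a c : ZMod 2) = 0 := fun c => by
      have := Finset.card_eq_zero.1 hk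
      have h1 : ¬ (a c : ZMod 2) = 1 := Finset.filter_eq_empty_iff.1 this (mem_univ c)
      generalize (a c : ZMod 2) = z at h1 ⊢
      revert z; decide
    choose b hb using fun c => exists_half (a c) (heven c)
    have h1 : ∑ c, b c ^ 2 = 1 := by
      simp only [hb, mul_pow] at h4
      rw [← mul_sum] at h4
      linarith
    obtain ⟨c0, hc0⟩ : ∃ c, b c ≠ 0 := by
      by_contra hh
      push Not at hh
      simp [hh] at h1
    have hother : ∀ c, c ≠ c0 → b c = 0 := by
      intro c hc
      have h2 : b c0 ^ 2 + b c ^ 2 ≤ 1 := by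
        rw [← h1, ← Finset.sum_pair (f := fun c => b c ^ 2) (Ne.symm hc)]
        exact Finset.sum_le_sum_of_subset_of_nonneg (Finset.subset_univ _) fun i _ _ => sq_nonneg _
      have : 0 < b c0 ^ 2 := by positivity
      have : b c ^ 2 ≤ 0 := by omega
      exact sq_eq_zero_iff.1 (le_antisymm this (sq_nonneg _))
    have hc1 : b c0 ^ 2 = 1 := by
      rw [← h1, Finset.sum_eq_single c0]
      · intro c _ hc; rw [hother c hc]; rfl
      · simp
    refine ⟨c0, (pm_one hc1).imp (fun e => ?_) (fun e => ?_)⟩ <;> refine ext_flat fun c => ?_ <;>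
      rw [flatZ_cvec, ha, hb]
    · rw [val_fourCode]
      rcases eq_or_ne c c0 with rfl | hc
      · rw [e, if_pos rfl]; rfl
      · rw [hother c hc, if_neg (fun h => hc (Fin.ext h))]; rfl
    · simp only [val, bitn, Nat.zero_testBit]
      rw [show Nat.shiftLeft 1 c0.val = 1 <<< c0.val from rfl, Nat.shiftLeft_eq, one_mul, Nat.testBit_two_pow]
      rcases eq_or_ne c c0 with rfl | hc
      · simp [e]
      · simp [hother c hc, show ¬ c0.val = c.val from fun h => hc (Fin.ext h.symm)]
  · exfalso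
    refine no_quad _ hk fun i => dbl2_inj ?_
    have h := four_flat hv (row_data i).1
    rw [← h, map_sum, sum_filter]
    refine sum_congr rfl fun c _ => ?_
    rw [ha, Int.cast_mul, Int.cast_ofNat, mul_assoc, mul_comm (a c : ZMod 4), ← mul_assoc, two_gv,
      (row_data i).2 c]
    split_ifs with hc
    · cases (Data.gCol.getD c 0).testBit i
      · simp [bb]
      · rw [show dbl2 (bb true) = 2 by decide, dbl2_int, hc]
        decide
    · have h0 : (a c : ZMod 2) = 0 := by generalize (a c : ZMod 2) = z at hc ⊢; revert z; decide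
      cases (Data.gCol.getD c 0).testBit i
      · simp [bb]
      · rw [show dbl2 (bb true) = 2 by decide, dbl2_int, h0]
        decide

/-! ### Weight eight -/

theorem blockSum_eq (a : ℕ × ℕ) (n : ℕ) : blockSum a n = ∑ k : Fin 8, gv a (8 * n + k) := by
  have : ∀ m, (Nat.rec 0 (fun k acc => Nat.add acc (gvN a (Nat.add (Nat.mul 8 n) k))) m : ℕ) =
      ∑ k ∈ range m, gv a (8 * n + k) := by
    intro m
    induction m with
    | zero => rfl
    | succ m ih =>
      show _ + gvN a (8 * n + m) = _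
      rw [sum_range_succ, gvN_eq, ih]
  exact (this 8).trans (Finset.sum_range _)

theorem testBit_blockBits (a n k : ℕ) (hk : k < 8) : (blockBits a n).testBit k = a.testBit (8 * n + k) := by
  show ((a >>> (8 * n)) &&& 255).testBit k = _
  rw [Nat.testBit_and, Nat.testBit_shiftRight, show (255 : ℕ) = 2 ^ 8 - 1 by norm_num,
    Nat.testBit_two_pow_sub_one, decide_eq_true hk, Bool.and_true]

theorem blockSat_bit : ∀ (l : List (ℕ × ℕ)) (n t i s : ℕ), s < 256 →
    (∀ j, (hj : j < l.length) → (par (blockBits l[j].1 n) s 8 ^^ t.testBit (i + j)) =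
      Nat.beq (blockSum l[j] n % 4) 2) → (blockSat l n t i).testBit s = true
  | [], n, t, i, s, hs, _ => by
    show full8.testBit s = true
    rw [full8, testBit_ones]; exact decide_eq_true hs
  | a :: l, n, t, i, s, hs, h => by
    show ((cond (bit0 t i) (blockPair a n).2 (blockPair a n).1) &&& blockSat l n t (i + 1)).testBit s = true
    rw [Nat.testBit_and, blockSat_bit l n t (i + 1) s hs fun j hj => by
      have := h (j + 1) (by simpa using hj)
      rwa [show i + (j + 1) = i + 1 + j by omega] at this, Bool.and_true]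
    have ha := h 0 (by simp)
    simp only [List.getElem_cons_zero, Nat.add_zero] at ha
    have hx : (xorSel 8 (blockBits a.1 n) 8).testBit s = par (blockBits a.1 n) s 8 :=
      testBit_xorSel 8 _ 8 s le_rfl hs
    have hf : full8.testBit s = true := by rw [full8, testBit_ones]; exact decide_eq_true hs
    rw [bit0_eq]
    show (cond (t.testBit i) (cond (Nat.beq (blockSum a n % 4) 2)
        (xorSel 8 (blockBits a.1 n) 8, xorSel 8 (blockBits a.1 n) 8 ^^^ full8)
        (xorSel 8 (blockBits a.1 n) 8 ^^^ full8, xorSel 8 (blockBits a.1 n) 8)).2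
      (cond (Nat.beq (blockSum a n % 4) 2)
        (xorSel 8 (blockBits a.1 n) 8, xorSel 8 (blockBits a.1 n) 8 ^^^ full8)
        (xorSel 8 (blockBits a.1 n) 8 ^^^ full8, xorSel 8 (blockBits a.1 n) 8)).1).testBit s = true
    generalize Nat.beq (blockSum a n % 4) 2 = b at ha
    cases b <;> cases ht : t.testBit i <;> rw [ht] at ha <;>
      simp only [cond_true, cond_false, Nat.testBit_xor, hx, hf] <;> revert ha <;>
      cases par (blockBits a.1 n) s 8 <;> decide

theorem block_mask (n : Fin 7) : ∀ c : Fin 56,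
    ((255 : ℕ) <<< (8 * n.val)).testBit c = decide (c.val / 8 = n.val) := by
  revert n
  decide +kernel

/-- No vector is odd exactly on one block. -/
theorem eight_case {v : Spor.RuVec} (hv : v ∈ Spor.ruLattice) (hn : Spor.ruNorm v = 16) (n : Fin 7)
    (hpar : ∀ c : Fin 56, f2 v c = bb (decide (c.val / 8 = n.val))) : False := by
  let pos : Fin 8 → Fin 56 := fun k => ⟨8 * n.val + k.val, by omega⟩
  have hinj : Function.Injective pos := fun i j e => Fin.ext (by have := congrArg Fin.val e; simp [pos] at this; omega)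
  have hmem : ∀ c : Fin 56, (∀ j, pos j ≠ c) ↔ c.val / 8 ≠ n.val := by
    intro c
    constructor
    · intro h e; exact h ⟨c.val % 8, by omega⟩ (Fin.ext (by simp [pos]; omega))
    · intro h j e; exact h (by subst e; simp [pos]; omega)
  have hev : ∀ c : Fin 56, (∀ j, pos j ≠ c) → ∃ a, flatZ v c = 2 * a := fun c hc =>
    exists_half _ (by show f2 v c = 0; rw [hpar, decide_eq_false ((hmem c).1 hc)]; rfl)
  have hall : ∀ c, ∃ a, (∀ j, pos j ≠ c) → flatZ v c = 2 * a := fun c => by
    by_cases hc : ∀ j, pos j ≠ c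
    · obtain ⟨a, ha⟩ := hev c hc; exact ⟨a, fun _ => ha⟩
    · exact ⟨0, fun h => absurd h hc⟩
  choose g hg using hall
  have hodd : ∀ j, ∃ k, flatZ v (pos j) = 2 * k + 1 := fun j => by
    have h : f2 v (pos j) = 1 := by
      rw [hpar, decide_eq_true (show (pos j).val / 8 = n.val by simp [pos]; omega)]; rfl
    obtain ⟨a, ha⟩ := exists_half (flatZ v (pos j) - 1) (by push_cast; rw [show (flatZ v (pos j) : ZMod 2) = 1 from h]; rfl)
    exact ⟨a, by omega⟩
  choose kk hkk using hodd
  rw [ruNorm_eq_flat, ← sum_filter_add_sum_filter_not univ (fun c => ∀ j, pos j ≠ c)] at hn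
  have himg : univ.filter (fun c => ¬∀ j, pos j ≠ c) = univ.image pos := by ext c; simp
  rw [himg, sum_image fun x _ y _ h => hinj h,
    sum_congr rfl (fun c hc => by rw [hg c (mem_filter.1 hc).2, mul_pow] : ∀ c ∈ univ.filter (fun c => ∀ j, pos j ≠ c),
      flatZ v c ^ 2 = 2 ^ 2 * g c ^ 2), ← mul_sum] at hn
  have h8 : ∃ r, 0 ≤ r ∧ ∑ j, flatZ v (pos j) ^ 2 = 8 * r + 8 := by
    have e : ∀ j, ∃ r, 0 ≤ r ∧ flatZ v (pos j) ^ 2 = 8 * r + 1 := fun j => by
      obtain ⟨t, ht⟩ := Int.two_dvd_mul_add_one (kk j) |>.imp fun _ h => h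
      refine ⟨t, ?_, by rw [hkk]; linear_combination 4 * ht⟩
      have : 0 ≤ kk j * (kk j + 1) := by nlinarith [sq_nonneg (2 * kk j + 1)]
      omega
    choose r hr using e
    refine ⟨∑ j, r j, sum_nonneg fun j _ => (hr j).1, ?_⟩
    simp only [fun j => (hr j).2, sum_add_distrib, mul_sum]
    simp
  obtain ⟨r, hr0, hr⟩ := h8
  obtain ⟨q, hq⟩ := odd_card (univ.filter fun c => ∀ j, pos j ≠ c) g
  have hle := odd_card_le (univ.filter fun c => ∀ j, pos j ≠ c) g
  set T := (univ.filter fun c => ∀ j, pos j ≠ c).filter fun c => (g c : ZMod 2) = 1 with hT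
  obtain hk | hk : T.card = 0 ∨ T.card = 2 := by omega
  all_goals
    obtain ⟨s, hs256, hsbit⟩ : ∃ s, s < 256 ∧ ∀ j : Fin 8,
        s.testBit j = decide ((flatZ v (pos j) : ZMod 4) = 3) :=
      ⟨Nat.ofBits fun j : Fin 8 => decide ((flatZ v (pos j) : ZMod 4) = 3), Nat.ofBits_lt_two_pow _,
        fun j => Nat.testBit_ofBits_lt (fun j : Fin 8 => decide ((flatZ v (pos j) : ZMod 4) = 3)) j j.isLt⟩
    have key : ∀ i : Fin 19, (bb (par (blockBits (aRow i).1 n) s 8) +
        ∑ c ∈ T, bb ((Data.gCol.getD c 0).testBit i)) = bb (Nat.beq (blockSum (aRow i) n % 4) 2) := by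
      intro i
      have h := check_eq hv (row_data i).1 pos hinj (fun j => s.testBit j) g (fun j => by
        rw [hsbit, hkk]
        push_cast
        generalize (kk j : ZMod 4) = z
        revert z; decide) (fun c hc => hg c hc)
      have h2 := solve_check _ _ h
      rw [blockSum_eq, bb_par, Finset.sum_range]
      have h3 : ∀ k : Fin 8, bb ((blockBits (aRow i).1 n).testBit k) = bb ((aRow i).1.testBit (pos k)) :=
        fun k => by rw [testBit_blockBits _ _ _ k.isLt]
      simp only [h3]
      rw [show bb (Nat.beq ((∑ k : Fin 8, gv (aRow i) (8 * n.val + k)) % 4) 2) =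
        (if Nat.beq ((∑ k : Fin 8, gv (aRow i) (8 * n.val + k)) % 4) 2 then 1 else 0) from rfl, ← h2]
      congr 1
      rw [hT, sum_filter, sum_filter, sum_filter]
      refine sum_congr rfl fun c _ => ?_
      rw [(row_data i).2 c]
      by_cases hc : ∀ j, pos j ≠ c
      · rw [if_pos hc, if_pos hc]
        generalize (g c : ZMod 2) = z
        revert z
        cases (Data.gCol.getD c 0).testBit i <;> decide
      · rw [if_neg hc, if_neg hc]
  · have hb := forallLt_elim blocks_ok n.isLt
    rw [blockOK, Bool.and_eq_true] at hb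
    have h := blockSat_bit Data.aRows n 0 0 s hs256 fun j hj => by
      refine bb_inj ?_
      have := key ⟨j, by simpa [Data.aRows] using hj⟩
      rw [Finset.card_eq_zero.1 hk, sum_empty, add_zero] at this
      simpa [aRow, List.getD_eq_getElem, hj] using this
    rw [Nat.eq_of_beq_eq_true hb.1] at h
    simp at h
  · obtain ⟨c, d, hcd, hcard⟩ := Finset.card_eq_two.1 hk
    wlog hlt : d < c generalizing c d
    · exact this d c hcd.symm (hcard.trans (Finset.pair_comm c d)) (lt_of_le_of_ne (not_lt.1 hlt) hcd)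
    have hout : ∀ x ∈ T, x.val / 8 ≠ n.val := fun x hx => by
      rw [hT] at hx
      exact (hmem x).1 (mem_filter.1 (mem_filter.1 hx).1).2
    have hb := forallLt_elim blocks_ok n.isLt
    rw [blockOK, Bool.and_eq_true] at hb
    have hbb := forallLt_elim hb.2 c.isLt
    have hne : ∀ x : Fin 56, x.val / 8 ≠ n.val → Nat.beq (Nat.div x.val 8) n.val = false := fun x hx =>
      Bool.eq_false_iff.2 fun h => hx (Nat.eq_of_beq_eq_true h)
    rw [hne c (hout c (by simp [hcard])), Bool.false_or] at hbb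
    have hbd := forallLt_elim hbb (show d.val < c.val from hlt)
    rw [hne d (hout d (by simp [hcard])), Bool.false_or] at hbd
    have h := blockSat_bit Data.aRows n (Nat.xor (Data.gCol.getD c 0) (Data.gCol.getD d 0)) 0 s hs256 fun j hj => by
      refine bb_inj ?_
      have := key ⟨j, by simpa [Data.aRows] using hj⟩
      rw [hcard, Finset.sum_pair hcd, ← bb_xor] at this
      rw [bb_xor, Nat.zero_add, show Nat.xor (Data.gCol.getD c 0) (Data.gCol.getD d 0) =
        Data.gCol.getD c 0 ^^^ Data.gCol.getD d 0 from rfl, Nat.testBit_xor]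
      simpa [aRow, List.getD_eq_getElem, hj] using this
    rw [Nat.eq_of_beq_eq_true hbd] at h
    simp at h

/-! ### The list -/

/-- The codes of weight sixteen of one word. -/
noncomputable def wordCodes (w : Word) : List Code := w.2.2.2.map (signCode w.2.1 w.2.2.1)

/-- Four times the unit vectors. -/
noncomputable def fourList : List Code :=
  (List.range 56).flatMap fun c => [fourCode c, (4, 0, Nat.shiftLeft 1 c)]

/-- All minimal vectors. -/
noncomputable def minList : List Code := fourList ++ Data.words.flatMap wordCodes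

/-- The vectors of norm `16` are listed. -/
theorem classify {v : Spor.RuVec} (hv : v ∈ Spor.ruLattice) (hn : Spor.ruNorm v = 16) :
    ∃ a ∈ minList, v = cvec a := by
  obtain ⟨w, hw, hok, hpar⟩ := exists_word hv hn
  obtain ⟨m, x, P, sols⟩ := w
  rw [wordOK] at hok
  simp only at hpar hok
  rcases hx : Nat.beq x 0 with _ | _ <;> rw [hx] at hok
  · rw [cond_false] at hok
    rcases h8 : Nat.beq (pc x) 8 with _ | _ <;> rw [h8] at hok
    · rw [cond_false, Bool.and_eq_true, Bool.and_eq_true] at hok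
      obtain ⟨⟨hs, hm⟩, hsat⟩ := hok
      have hP : ∀ j < 16, posAt P j < 56 := by
        intro j hj
        by_contra hge
        push Not at hge
        have hb : x.testBit (posAt P j) = true := by
          rw [← Nat.eq_of_beq_eq_true hm]; exact (testBit_posMask P 16 _).2 ⟨j, hj, rfl⟩
        rw [Nat.testBit_lt_two_pow (lt_of_lt_of_le (words_lt hw) (Nat.pow_le_pow_right (by norm_num) hge))] at hb
        exact Bool.false_ne_true hb
      obtain ⟨s, hs', rfl⟩ := units_case hv hn hs (Nat.eq_of_beq_eq_true hm) (Nat.eq_of_beq_eq_true hsat) hpar hP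
      exact ⟨_, List.mem_append_right _ (List.mem_flatMap.2 ⟨_, hw, List.mem_map.2 ⟨s, hs', rfl⟩⟩), rfl⟩
    · rw [cond_true, Bool.not_eq_true'] at hok
      obtain ⟨n, hn7, hxn⟩ : ∃ n < 7, x = (255 : ℕ) <<< (8 * n) := by
        by_contra hh
        push Not at hh
        rw [(forallLt_iff _ _).2 (fun k hk => by
          simp only [Bool.not_eq_true']
          exact Bool.eq_false_iff.2 fun e => hh k hk (Nat.eq_of_beq_eq_true e))] at hok
        exact Bool.false_ne_true hok.symm
      refine (eight_case hv hn ⟨n, hn7⟩ fun c => ?_).elim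
      rw [hpar, hxn, block_mask ⟨n, hn7⟩]
  · obtain ⟨c, h | h⟩ := zero_case hv hn fun c => by
      rw [hpar, Nat.eq_of_beq_eq_true hx, Nat.zero_testBit]; rfl
    all_goals
      refine ⟨_, List.mem_append_left _ (List.mem_flatMap.2 ⟨c.val, List.mem_range.2 c.isLt, ?_⟩), h⟩
      simp

end CfsgLib.Sporadic.RuLink
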