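import Cfsg.Agent.Lib.Sporadic.RuLink.Codes
import Cfsg.Agent.Lib.Sporadic.RuLink.LatticeData

/-!
# Membership in the Rudvalis lattice

The lattice is the preimage of its image modulo four, and it is generated by forty coded vectors
together with four times the unit vectors.
-/

set_option autoImplicit false
set_option maxRecDepth 100000

namespace CfsgLib.Sporadic.RuLink

open Cfsg Finset
open CfsgLib.Sporadic.Rudvalis

abbrev Node : Type := Code × ℕ × ℕ

def nodeAt (i : ℕ) : Node := Data.nodes.getD i ((0, 0, 0), 5, 0)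

/-- The source of a node is right. -/
def nodeOK (i : Fin 98) : Bool :=
  if (nodeAt i).2.1 = 5 then
    decide ((nodeAt i).2.2 < Spor.ruTable.length ∧ ∀ c : Fin 56,
      flatZ (Spor.ruTable.getD (nodeAt i).2.2 0) c = val (nodeAt i).1 c)
  else
    decide ((nodeAt i).2.1 < 5 ∧ (nodeAt i).2.2 < i.val ∧ ∀ c : Fin 56, val (nodeAt i).1 c =
      sgn (pi (nodeAt i).2.1 c).2 * val (nodeAt (nodeAt i).2.2).1 (Fin.ofNat 56 (pi (nodeAt i).2.1 c).1))

theorem nodes_ok : ∀ i : Fin 98, nodeOK i = true := by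
  decide +kernel

theorem op_mem {v : Spor.RuVec} (hv : v ∈ Spor.ruLattice) (k : ℕ) (hk : k < 5) :
    ∃ w ∈ Spor.ruLattice, ∀ c : Fin 56, flatZ w c = sgn (pi k c).2 * flatZ v (Fin.ofNat 56 (pi k c).1) := by
  have h : ∀ S ∈ Spor.ruClosed, v ∈ S := fun S hS => AddSubgroup.mem_sInf.1 hv S hS
  have mem : ∀ f : Spor.RuVec → Spor.RuVec, (∀ S ∈ Spor.ruClosed, ∀ u ∈ S, f u ∈ S) → f v ∈ Spor.ruLattice :=
    fun f hf => AddSubgroup.mem_sInf.2 fun S hS => hf S hS v (h S hS)
  interval_cases k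
  · exact ⟨_, mem (fun u => Spor.gI • u) (fun S hS u hu => (hS.2 u hu).1), flatZ_gI v⟩
  · exact ⟨_, mem _ (fun S hS u hu => (hS.2 u hu).2.1), flatZ_Rj v⟩
  · exact ⟨_, mem _ (fun S hS u hu => (hS.2 u hu).2.2.1), flatZ_Rk v⟩
  · exact ⟨_, mem _ (fun S hS u hu => (hS.2 u hu).2.2.2.1), flatZ_Sign v⟩
  · exact ⟨_, mem _ (fun S hS u hu => (hS.2 u hu).2.2.2.2), flatZ_Shift v⟩

theorem node_mem : ∀ n, ∀ i : Fin 98, i.val < n → cvec (nodeAt i).1 ∈ Spor.ruLattice := by
  intro n
  induction n with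
  | zero => intro i hi; omega
  | succ n ih =>
    intro i hi
    have h := nodes_ok i
    rw [nodeOK] at h
    split_ifs at h with h5
    · rw [decide_eq_true_eq] at h
      rw [show cvec (nodeAt i).1 = Spor.ruTable.getD (nodeAt i).2.2 0 from
        (ext_flat fun c => by rw [flatZ_cvec, h.2 c])]
      refine AddSubgroup.mem_sInf.2 fun S hS => hS.1 _ ?_
      rw [List.getD_eq_getElem _ _ h.1]
      exact List.getElem_mem _
    · rw [decide_eq_true_eq] at h
      obtain ⟨w, hw, he⟩ := op_mem (ih ⟨(nodeAt i).2.2, by omega⟩ (show (nodeAt i).2.2 < n by omega)) _ h.1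
      rw [show cvec (nodeAt i).1 = w from ext_flat fun c => by rw [flatZ_cvec, he c, flatZ_cvec, h.2.2 c]]
      exact hw

theorem node_mem' (i : ℕ) (h : i < 98) : cvec (nodeAt i).1 ∈ Spor.ruLattice :=
  node_mem (i + 1) ⟨i, h⟩ (Nat.lt_succ_self i)

theorem four_data : ∀ c : Fin 56, Data.fourIdx.getD c 0 < 98 ∧
    ∀ d : Fin 56, val (nodeAt (Data.fourIdx.getD c 0)).1 d = if d.val = c.val then 4 else 0 := by
  decide +kernel

theorem four_mem (c : Fin 56) : cvec (fourCode c) ∈ Spor.ruLattice := by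
  obtain ⟨h1, h2⟩ := four_data c
  rw [show cvec (fourCode c) = cvec (nodeAt (Data.fourIdx.getD c 0)).1 from
    ext_flat fun d => by rw [flatZ_cvec, flatZ_cvec, val_fourCode, h2 d]]
  exact node_mem' _ h1

/-- The generators. -/
def genS (k : Fin 40) : Code := (nodeAt (Data.sIdx.getD k 0)).1

theorem sIdx_lt : ∀ k : Fin 40, Data.sIdx.getD k 0 < 98 := by
  decide +kernel

theorem genS_mem (k : Fin 40) : cvec (genS k) ∈ Spor.ruLattice := node_mem' _ (sIdx_lt k)

theorem row_coef_data : ∀ j c : Fin 56, (4 : ℤ) ∣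
    (∑ k : Fin 40, (((Data.rowCoef.getD j []).getD k 0 : ℕ) : ℤ) * val (genS k) c) - (gv (row j) c : ℤ) := by
  decide +kernel

theorem flatZ_sum {ι : Type*} (s : Finset ι) (f : ι → Spor.RuVec) (c : Fin 56) :
    flatZ (∑ i ∈ s, f i) c = ∑ i ∈ s, flatZ (f i) c :=
  map_sum (AddMonoidHom.mk' (fun v => flatZ v c) fun u v => flatZ_add u v c) _ _

theorem flatZ_zsmul (n : ℤ) (v : Spor.RuVec) (c : Fin 56) : flatZ (n • v) c = n * flatZ v c := by
  simpa using map_zsmul (AddMonoidHom.mk' (fun v => flatZ v c) fun u v => flatZ_add u v c) n v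

theorem flatZ_nsmul (n : ℕ) (v : Spor.RuVec) (c : Fin 56) : flatZ (n • v) c = n * flatZ v c := by
  simpa using map_nsmul (AddMonoidHom.mk' (fun v => flatZ v c) fun u v => flatZ_add u v c) n v

/-- A group containing the generators and four times the unit vectors contains the lattice. -/
theorem lattice_le (p : AddSubgroup Spor.RuVec) (hS : ∀ k, cvec (genS k) ∈ p)
    (h4 : ∀ c : Fin 56, cvec (fourCode c) ∈ p) {v : Spor.RuVec} (hv : red v ∈ W4) : v ∈ p := by
  have key : W4 ≤ (AddSubgroup.closure (Set.range fun k => cvec (genS k))).map red := by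
    refine (AddSubgroup.closure_le _).2 ?_
    rintro _ ⟨j, rfl⟩
    refine ⟨∑ k : Fin 40, (Data.rowCoef.getD j []).getD k 0 • cvec (genS k),
      sum_mem fun k _ => nsmul_mem (AddSubgroup.subset_closure (Set.mem_range_self k)) _, ?_⟩
    funext c
    show (flatZ _ c : ZMod 4) = (gv (row j) c : ZMod 4)
    rw [flatZ_sum]
    simp only [flatZ_nsmul, flatZ_cvec]
    rw [← sub_eq_zero, ← Int.cast_natCast (R := ZMod 4), ← Int.cast_sub]
    exact (ZMod.intCast_zmod_eq_zero_iff_dvd _ 4).2 (row_coef_data j c)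
  obtain ⟨u, hu, he⟩ := key hv
  have hup : u ∈ p := (AddSubgroup.closure_le p).2 (by rintro _ ⟨k, rfl⟩; exact hS k) hu
  have hd : ∀ c : Fin 56, (4 : ℤ) ∣ flatZ (v - u) c := fun c => by
    refine (ZMod.intCast_zmod_eq_zero_iff_dvd _ 4).1 ?_
    rw [flatZ_sub, Int.cast_sub, sub_eq_zero]
    exact (congrFun he c).symm
  choose q hq using hd
  have e : v - u = ∑ c : Fin 56, q c • cvec (fourCode c) := by
    refine ext_flat fun d => ?_
    rw [flatZ_sum, hq d]
    simp only [flatZ_zsmul, flatZ_cvec, val_fourCode]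
    rw [Finset.sum_eq_single d]
    · rw [if_pos rfl, mul_comm]
    · intro c _ hc; rw [if_neg (fun h => hc (Fin.ext h.symm)), mul_zero]
    · simp
  have : v - u ∈ p := e ▸ sum_mem fun c _ => zsmul_mem (h4 c) _
  simpa using add_mem this hup

theorem mem_lattice_iff {v : Spor.RuVec} : v ∈ Spor.ruLattice ↔ red v ∈ W4 :=
  ⟨red_mem_W4, lattice_le _ genS_mem four_mem⟩

/-- A code is in the lattice. -/
noncomputable def inL (a : Code) : Bool :=
  Nat.beq (Nat.land a.2.1 a.2.2) 0 &&
    (Nat.beq a.1 4 || (Nat.beq a.1 1 && inW (Nat.lor a.2.1 a.2.2, a.2.2)))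

theorem cvec_mem {a : Code} (h : inL a = true) : cvec a ∈ Spor.ruLattice := by
  obtain ⟨k, P, N⟩ := a
  simp only [inL, Bool.and_eq_true, Bool.or_eq_true, Nat.beq_eq] at h
  obtain ⟨hd, h4 | ⟨h1, hW⟩⟩ := h
  · subst h4
    rw [mem_lattice_iff, show red (cvec (4, P, N)) = 0 from funext fun c => ?_]
    · exact zero_mem _
    · show (flatZ _ c : ZMod 4) = 0
      rw [flatZ_cvec, val]
      push_cast
      rw [show (4 : ZMod 4) = 0 from by decide, zero_mul]
  · subst h1
    rw [mem_lattice_iff, show red (cvec (1, P, N)) = vec (P ||| N, N) from funext fun c => ?_]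
    · exact inW_sound hW
    · show (flatZ _ c : ZMod 4) = (gv (P ||| N, N) c : ZMod 4)
      rw [flatZ_cvec, val]
      have hc := congrArg (fun x => x.testBit c) (show P &&& N = 0 from hd)
      simp only [Nat.testBit_and, Nat.zero_testBit] at hc
      simp only [gv, bitn, Nat.testBit_or]
      revert hc
      cases P.testBit c <;> cases N.testBit c <;> decide

end CfsgLib.Sporadic.RuLink
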