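import Mathlib
import Cfsg.Agent.Lib.Sporadic.RudvalisNorm
import Cfsg.Agent.Lib.Sporadic.Bits

/-!
# Coded vectors of the Rudvalis lattice

A code `(k, P, N)` stands for the vector with `k` at the coordinates of `P` and `-k` at those of
`N`.  Real inner products of coded vectors are population counts.
-/

set_option autoImplicit false
set_option maxRecDepth 100000

namespace CfsgLib.Sporadic.RuLink

open Cfsg Finset
open CfsgLib.Sporadic.Rudvalis

abbrev Code : Type := ℕ × ℕ × ℕ

/-- The vector with given flat coordinates. -/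
def mk (f : ℕ → ℤ) : Spor.RuVec := fun q => ⟨f (8 * q.1.val + 2 * q.2.val), f (8 * q.1.val + 2 * q.2.val + 1)⟩

theorem idx_val (p : Fin 28) : ((idx p).1.val, (idx p).2.val) = (p.val / 4, p.val % 4) := rfl

theorem flatZ_mk (f : ℕ → ℤ) (c : Fin 56) : flatZ (mk f) c = f c := by
  unfold flatZ mk idx
  simp only
  split_ifs with h
  · exact congrArg f (by omega)
  · exact congrArg f (by omega)

theorem ext_flat {u v : Spor.RuVec} (h : ∀ c, flatZ u c = flatZ v c) : u = v := by
  funext q
  obtain ⟨n, t⟩ := q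
  have e : idx ⟨4 * n.val + t.val, by omega⟩ = (n, t) := by
    unfold idx
    refine Prod.ext (Fin.ext ?_) (Fin.ext ?_) <;> simp only <;> omega
  have h1 := h ⟨2 * (4 * n.val + t.val), by omega⟩
  have h2 := h ⟨2 * (4 * n.val + t.val) + 1, by omega⟩
  rw [flatZ_even u ⟨4 * n.val + t.val, by omega⟩, flatZ_even v ⟨4 * n.val + t.val, by omega⟩] at h1
  rw [flatZ_odd u ⟨4 * n.val + t.val, by omega⟩, flatZ_odd v ⟨4 * n.val + t.val, by omega⟩] at h2
  simp only [reZ, imZ, e] at h1 h2
  exact Zsqrtd.ext h1 h2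

theorem flatZ_add (u v : Spor.RuVec) (c : Fin 56) : flatZ (u + v) c = flatZ u c + flatZ v c := by
  unfold flatZ; split_ifs <;> simp

theorem flatZ_zero (c : Fin 56) : flatZ 0 c = 0 := by
  unfold flatZ; split_ifs <;> simp

theorem flatZ_neg (u : Spor.RuVec) (c : Fin 56) : flatZ (-u) c = - flatZ u c := by
  unfold flatZ; split_ifs <;> simp

theorem flatZ_sub (u v : Spor.RuVec) (c : Fin 56) : flatZ (u - v) c = flatZ u c - flatZ v c := by
  rw [sub_eq_add_neg, flatZ_add, flatZ_neg, sub_eq_add_neg]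

/-- The coordinates of a code. -/
def val (a : Code) (c : ℕ) : ℤ := (a.1 : ℤ) * ((bitn a.2.1 c : ℤ) - (bitn a.2.2 c : ℤ))

/-- The vector of a code. -/
def cvec (a : Code) : Spor.RuVec := mk (val a)

theorem flatZ_cvec (a : Code) (c : Fin 56) : flatZ (cvec a) c = val a c := flatZ_mk _ _

/-- The real inner product. -/
def hr (u v : Spor.RuVec) : ℤ := ∑ c, flatZ u c * flatZ v c

theorem hr_comm (u v : Spor.RuVec) : hr u v = hr v u := by simp [hr, mul_comm]

theorem hr_add_left (u v w : Spor.RuVec) : hr (u + v) w = hr u w + hr v w := by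
  simp [hr, flatZ_add, add_mul, sum_add_distrib]

theorem hr_add_right (u v w : Spor.RuVec) : hr u (v + w) = hr u v + hr u w := by
  rw [hr_comm, hr_add_left, hr_comm v, hr_comm w]

theorem hr_neg_left (u w : Spor.RuVec) : hr (-u) w = - hr u w := by
  simp [hr, flatZ_neg, sum_neg_distrib]

theorem hr_sub_left (u v w : Spor.RuVec) : hr (u - v) w = hr u w - hr v w := by
  rw [sub_eq_add_neg, hr_add_left, hr_neg_left, sub_eq_add_neg]

theorem hr_zero_left (u : Spor.RuVec) : hr 0 u = 0 := by simp [hr, flatZ_zero]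

theorem hr_self (u : Spor.RuVec) : hr u u = Spor.ruNorm u := by
  rw [ruNorm_eq_flat]; simp [hr, sq]

theorem norm_add (u v : Spor.RuVec) :
    Spor.ruNorm (u + v) = Spor.ruNorm u + Spor.ruNorm v + 2 * hr u v := by
  rw [← hr_self, ← hr_self, ← hr_self, hr_add_left, hr_add_right, hr_add_right, hr_comm v u]
  ring

/-- The population count of a number below `2 ^ 64`. -/
def pcTable : ℕ := ((List.range 256).map fun b =>
  ((List.range 8).map fun i => bitn b i).sum * 16 ^ b).sum

/-- The population count, by bytes. -/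
noncomputable def pcGo (tbl n : ℕ) : ℕ :=
  Nat.rec 0 (fun k acc => Nat.add acc
    (Nat.land (Nat.shiftRight tbl (Nat.mul 4 (Nat.land (Nat.shiftRight n (Nat.mul 8 k)) 255))) 15)) 7

noncomputable def pcLit : ℕ :=
  95125173855764218123276304889944061997689682402263585766959741291920687686033329201817409157123347502415384089435969498586180241031507595463600295898153685276653211633572815512294064538494957912327413386667662218713394765509704508661031522276467630197481635010039778342554499416459730172574551513689147646224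

noncomputable def pc (n : ℕ) : ℕ := pcGo pcLit n

theorem pc_byte : ∀ b : Fin 256, Nat.land (Nat.shiftRight pcLit (Nat.mul 4 b.val)) 15
    = ∑ i : Fin 8, bitn b.val i := by
  decide +kernel

theorem pc_eq (n : ℕ) : pc n = ∑ c : Fin 56, bitn n c := by
  have e : ∀ k, Nat.land (Nat.shiftRight pcLit (Nat.mul 4 (Nat.land (Nat.shiftRight n (Nat.mul 8 k)) 255))) 15
      = ∑ i : Fin 8, bitn n (8 * k + i) := by
    intro k
    have hlt : Nat.land (Nat.shiftRight n (Nat.mul 8 k)) 255 < 256 :=
      lt_of_le_of_lt Nat.and_le_right (by norm_num)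
    rw [pc_byte ⟨_, hlt⟩]
    refine sum_congr rfl fun i _ => ?_
    show bitn ((n >>> (8 * k)) &&& 255) i = _
    simp only [bitn]
    congr 1
    rw [Nat.testBit_and, Nat.testBit_shiftRight, show (255 : ℕ) = 2 ^ 8 - 1 by norm_num,
      Nat.testBit_two_pow_sub_one]
    simp [i.isLt]
  have h : ∀ m, (Nat.rec 0 (fun k acc => Nat.add acc
      (Nat.land (Nat.shiftRight pcLit (Nat.mul 4 (Nat.land (Nat.shiftRight n (Nat.mul 8 k)) 255))) 15)) m : ℕ)
      = ∑ k ∈ range m, ∑ i : Fin 8, bitn n (8 * k + i) := by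
    intro m
    induction m with
    | zero => simp
    | succ m ih =>
      show Nat.add _ _ = _
      rw [sum_range_succ, ih, e]
      rfl
  unfold pc pcGo
  rw [h 7, sum_range, ← (finProdFinEquiv (m := 7) (n := 8)).sum_comp (fun c : Fin (7 * 8) => bitn n c),
    Fintype.sum_prod_type]
  refine sum_congr rfl fun k _ => sum_congr rfl fun i _ => congrArg (bitn n) ?_
  simp [finProdFinEquiv]
  ring

theorem bitn_and (a b c : ℕ) : bitn (a &&& b) c = bitn a c * bitn b c := by
  simp only [bitn, Nat.testBit_and]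
  cases a.testBit c <;> cases b.testBit c <;> rfl

/-- The inner product of two codes. -/
noncomputable def dotc (a b : Code) : ℤ :=
  (Nat.mul a.1 b.1 : ℕ) * Int.subNatNat (Nat.add (pc (Nat.land a.2.1 b.2.1)) (pc (Nat.land a.2.2 b.2.2)))
    (Nat.add (pc (Nat.land a.2.1 b.2.2)) (pc (Nat.land a.2.2 b.2.1)))

theorem hr_cvec (a b : Code) : hr (cvec a) (cvec b) = dotc a b := by
  show _ = ((a.1 * b.1 : ℕ) : ℤ) * Int.subNatNat (pc (a.2.1 &&& b.2.1) + pc (a.2.2 &&& b.2.2))
    (pc (a.2.1 &&& b.2.2) + pc (a.2.2 &&& b.2.1))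
  rw [Int.subNatNat_eq_coe, pc_eq, pc_eq, pc_eq, pc_eq]
  simp only [bitn_and]
  push_cast
  rw [← sum_add_distrib, ← sum_add_distrib, ← sum_sub_distrib, mul_sum]
  refine sum_congr rfl fun c _ => ?_
  rw [flatZ_cvec, flatZ_cvec]
  unfold val
  ring

/-- Multiplication by `i` on codes. -/
noncomputable def iCode (a : Code) : Code :=
  (a.1, Nat.lor (Nat.land (Nat.shiftRight a.2.2 1) 0x55555555555555)
      (Nat.shiftLeft (Nat.land a.2.1 0x55555555555555) 1),
    Nat.lor (Nat.land (Nat.shiftRight a.2.1 1) 0x55555555555555)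
      (Nat.shiftLeft (Nat.land a.2.2 0x55555555555555) 1))

theorem evenMask_data : ∀ c : Fin 57, (0x55555555555555 : ℕ).testBit c = decide (c.val % 2 = 0 ∧ c.val < 56) := by
  decide +kernel

theorem bitn_iMix (a b : ℕ) (c : Fin 56) :
    bitn (((a >>> 1) &&& 0x55555555555555) ||| ((b &&& 0x55555555555555) <<< 1)) c =
      if c.val % 2 = 0 then bitn a (c.val + 1) else bitn b (c.val - 1) := by
  simp only [bitn, Nat.testBit_or, Nat.testBit_and, Nat.testBit_shiftLeft, Nat.testBit_shiftRight]
  have h0 := evenMask_data ⟨c.val, by omega⟩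
  simp only at h0
  rw [h0, Nat.add_comm 1 c.val]
  split_ifs with h
  · have : ∀ x, (decide (x ≥ 1) && (b.testBit (x - 1) && Nat.testBit 0x55555555555555 (x - 1))) = true →
        x ≠ c.val := by
      intro x hx e
      subst e
      simp only [Bool.and_eq_true, decide_eq_true_eq] at hx
      have h1 := evenMask_data ⟨c.val - 1, by omega⟩
      simp only at h1
      rw [h1, decide_eq_true_eq] at hx
      omega
    rcases hb : (decide (c.val ≥ 1) && (b.testBit (c.val - 1) && Nat.testBit 0x55555555555555 (c.val - 1)))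
    · simp [h, c.isLt]
    · exact absurd rfl (this _ hb)
  · have h1 := evenMask_data ⟨c.val - 1, by omega⟩
    simp only at h1
    rw [h1]
    have : (c.val - 1) % 2 = 0 ∧ c.val - 1 < 56 := by omega
    simp [h, this, show c.val ≥ 1 by omega]

theorem flatZ_gI_eq (v : Spor.RuVec) (c : Fin 56) : flatZ (Spor.gI • v) c =
    if h : c.val % 2 = 0 then - flatZ v ⟨c.val + 1, by omega⟩ else flatZ v ⟨c.val - 1, by omega⟩ := by
  have e : ∀ z : GaussianInt, (Spor.gI * z).re = -z.im ∧ (Spor.gI * z).im = z.re := by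
    intro z; simp [Spor.gI]
  split_ifs with h
  · have h1 : ¬ (c.val + 1) % 2 = 0 := by omega
    have h2 : (⟨(c.val + 1) / 2, by omega⟩ : Fin 28) = ⟨c.val / 2, by omega⟩ := Fin.ext (by simp; omega)
    simp only [flatZ, h, h1, if_true, if_false, h2, Pi.smul_apply, smul_eq_mul]
    exact (e _).1
  · have h1 : (c.val - 1) % 2 = 0 := by omega
    have h2 : (⟨(c.val - 1) / 2, by omega⟩ : Fin 28) = ⟨c.val / 2, by omega⟩ := Fin.ext (by simp; omega)
    simp only [flatZ, h, h1, if_true, if_false, h2, Pi.smul_apply, smul_eq_mul]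
    exact (e _).2

theorem cvec_iCode (a : Code) : cvec (iCode a) = Spor.gI • cvec a := by
  refine ext_flat fun c => ?_
  rw [flatZ_cvec, flatZ_gI_eq]
  show (a.1 : ℤ) * ((bitn (((a.2.2 >>> 1) &&& 0x55555555555555) ||| ((a.2.1 &&& 0x55555555555555) <<< 1)) c : ℤ) -
      (bitn (((a.2.1 >>> 1) &&& 0x55555555555555) ||| ((a.2.2 &&& 0x55555555555555) <<< 1)) c : ℤ)) = _
  rw [bitn_iMix, bitn_iMix]
  split_ifs with h <;> rw [flatZ_cvec] <;> simp only [val] <;> ring

theorem hr_gI (u v : Spor.RuVec) : hr (Spor.gI • u) (Spor.gI • v) = hr u v := by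
  simp only [hr]
  rw [sum56, sum56]
  refine sum_congr rfl fun p _ => ?_
  have h1 : ¬ (2 * p.val + 1) % 2 = 0 := by omega
  have h2 : (2 * p.val) % 2 = 0 := by omega
  simp only [flatZ_gI_eq, h1, h2, dite_true, dite_false, Nat.add_sub_cancel]
  ring

theorem gI_gI (v : Spor.RuVec) : Spor.gI • (Spor.gI • v) = -v := by
  funext q
  show Spor.gI * (Spor.gI * v q) = - v q
  rw [← mul_assoc, show Spor.gI * Spor.gI = -1 from rfl, neg_one_mul]

theorem hr_gI_left (u v : Spor.RuVec) : hr (Spor.gI • u) v = - hr u (Spor.gI • v) := by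
  have h := hr_gI u (Spor.gI • v)
  rw [gI_gI, hr_comm, hr_neg_left, hr_comm] at h
  linarith

/-- The four multiples of the standard coordinate vectors. -/
noncomputable def fourCode (c : ℕ) : Code := (4, Nat.shiftLeft 1 c, 0)

theorem val_fourCode (c d : ℕ) : val (fourCode c) d = if d = c then 4 else 0 := by
  simp only [val, fourCode, bitn, Nat.zero_testBit]
  rw [show Nat.shiftLeft 1 c = 1 <<< c from rfl, Nat.shiftLeft_eq, one_mul, Nat.testBit_two_pow]
  by_cases h : c = d
  · simp [h]
  · simp [h, Ne.symm h]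

theorem hr_fourCode (v : Spor.RuVec) (c : Fin 56) : hr v (cvec (fourCode c)) = 4 * flatZ v c := by
  simp only [hr, flatZ_cvec, val_fourCode]
  rw [Finset.sum_eq_single c]
  · simp; ring
  · intro d _ hd; simp [show d.val ≠ c.val from fun e => hd (Fin.ext e)]
  · simp

end CfsgLib.Sporadic.RuLink
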