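import Cfsg.Agent.Lib.Sporadic.RuLink.Lift

/-! Kernel checks for the lift of generator 0. -/

set_option autoImplicit false
set_option maxRecDepth 100000
set_option Elab.async false

namespace CfsgLib.Sporadic.RuLink

open Cfsg

/-- The rows of the lift. -/
def rowsOf0 (c : ℕ) : Code := Data.liftRow0.getD c (0, 0, 0)

/-- The columns of the lift. -/
def colsOf0 (c : ℕ) : Code := Data.liftCol0.getD c (0, 0, 0)

theorem mem_rows0 : ∀ c : Fin 56, inL (rowsOf0 c) = true ∧ inL (colsOf0 c) = true := by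
  decide +kernel

theorem transp0 : ∀ c e : Fin 56, val (rowsOf0 c) e = val (colsOf0 e) c := by
  decide +kernel

theorem orth_rows0 : ∀ c e : Fin 56, dotc (rowsOf0 c) (rowsOf0 e) = if c = e then 16 else 0 := by
  decide +kernel

theorem orth_cols0 : ∀ c e : Fin 56, dotc (colsOf0 c) (colsOf0 e) = if c = e then 16 else 0 := by
  decide +kernel

theorem img_fwd0 : ∀ k : Fin 40, inL (Data.liftS0.getD k (0, 0, 0)) = true ∧
    ∀ c : Fin 56, dotc (genS k) (rowsOf0 c) = 4 * val (Data.liftS0.getD k (0, 0, 0)) c := by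
  decide +kernel

theorem img_bwd0 : ∀ k : Fin 40, inL (Data.liftT0.getD k (0, 0, 0)) = true ∧
    ∀ c : Fin 56, dotc (genS k) (colsOf0 c) = 4 * val (Data.liftT0.getD k (0, 0, 0)) c := by
  decide +kernel

theorem imag_rows0 : ∀ c e : Fin 56,
    (val (iCode (rowsOf0 c)) e =
      if h : c.val % 2 = 0 then val (rowsOf0 (c.val + 1)) e else - val (rowsOf0 (c.val - 1)) e) ∧
    (val (iCode (colsOf0 c)) e =
      if h : c.val % 2 = 0 then val (colsOf0 (c.val + 1)) e else - val (colsOf0 (c.val - 1)) e) := by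
  decide +kernel

/-- The lift. -/
def fwd0 : Iso56 :=
  ⟨rowsOf0, colsOf0, fun c => (mem_rows0 c).1, fun c => (mem_rows0 c).2, transp0, orth_rows0,
    orth_cols0, fun k => Data.liftS0.getD k (0, 0, 0), fun k => (img_fwd0 k).1,
    fun k => (img_fwd0 k).2, fun c e => (imag_rows0 c e).1⟩

/-- Its inverse. -/
def bwd0 : Iso56 :=
  ⟨colsOf0, rowsOf0, fun c => (mem_rows0 c).2, fun c => (mem_rows0 c).1,
    fun c e => (transp0 e c).symm, orth_cols0,
    orth_rows0, fun k => Data.liftT0.getD k (0, 0, 0), fun k => (img_bwd0 k).1,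
    fun k => (img_bwd0 k).2, fun c e => (imag_rows0 c e).2⟩

/-- The automorphism lifting generator 0. -/
noncomputable def lift0 : Spor.fourRu := liftAut fwd0 bwd0 rfl rfl

end CfsgLib.Sporadic.RuLink
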