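import Cfsg.Agent.Lib.Sporadic.RuLink.Lift

/-! Kernel checks for the lift of generator 1. -/

set_option autoImplicit false
set_option maxRecDepth 100000
set_option Elab.async false

namespace CfsgLib.Sporadic.RuLink

open Cfsg

/-- The rows of the lift. -/
def rowsOf1 (c : ℕ) : Code := Data.liftRow1.getD c (0, 0, 0)

/-- The columns of the lift. -/
def colsOf1 (c : ℕ) : Code := Data.liftCol1.getD c (0, 0, 0)

theorem mem_rows1 : ∀ c : Fin 56, inL (rowsOf1 c) = true ∧ inL (colsOf1 c) = true := by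
  decide +kernel

theorem transp1 : ∀ c e : Fin 56, val (rowsOf1 c) e = val (colsOf1 e) c := by
  decide +kernel

theorem orth_rows1 : ∀ c e : Fin 56, dotc (rowsOf1 c) (rowsOf1 e) = if c = e then 16 else 0 := by
  decide +kernel

theorem orth_cols1 : ∀ c e : Fin 56, dotc (colsOf1 c) (colsOf1 e) = if c = e then 16 else 0 := by
  decide +kernel

theorem img_fwd1 : ∀ k : Fin 40, inL (Data.liftS1.getD k (0, 0, 0)) = true ∧
    ∀ c : Fin 56, dotc (genS k) (rowsOf1 c) = 4 * val (Data.liftS1.getD k (0, 0, 0)) c := by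
  decide +kernel

theorem img_bwd1 : ∀ k : Fin 40, inL (Data.liftT1.getD k (0, 0, 0)) = true ∧
    ∀ c : Fin 56, dotc (genS k) (colsOf1 c) = 4 * val (Data.liftT1.getD k (0, 0, 0)) c := by
  decide +kernel

theorem imag_rows1 : ∀ c e : Fin 56,
    (val (iCode (rowsOf1 c)) e =
      if h : c.val % 2 = 0 then val (rowsOf1 (c.val + 1)) e else - val (rowsOf1 (c.val - 1)) e) ∧
    (val (iCode (colsOf1 c)) e =
      if h : c.val % 2 = 0 then val (colsOf1 (c.val + 1)) e else - val (colsOf1 (c.val - 1)) e) := by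
  decide +kernel

/-- The lift. -/
def fwd1 : Iso56 :=
  ⟨rowsOf1, colsOf1, fun c => (mem_rows1 c).1, fun c => (mem_rows1 c).2, transp1, orth_rows1,
    orth_cols1, fun k => Data.liftS1.getD k (0, 0, 0), fun k => (img_fwd1 k).1,
    fun k => (img_fwd1 k).2, fun c e => (imag_rows1 c e).1⟩

/-- Its inverse. -/
def bwd1 : Iso56 :=
  ⟨colsOf1, rowsOf1, fun c => (mem_rows1 c).2, fun c => (mem_rows1 c).1,
    fun c e => (transp1 e c).symm, orth_cols1,
    orth_rows1, fun k => Data.liftT1.getD k (0, 0, 0), fun k => (img_bwd1 k).1,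
    fun k => (img_bwd1 k).2, fun c e => (imag_rows1 c e).2⟩

/-- The automorphism lifting generator 1. -/
noncomputable def lift1 : Spor.fourRu := liftAut fwd1 bwd1 rfl rfl

end CfsgLib.Sporadic.RuLink
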