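import Cfsg.Agent.Lib.Sporadic.RuLink.Hom
import Cfsg.Agent.Lib.Sporadic.RuLink.LiftCheck0
import Cfsg.Agent.Lib.Sporadic.RuLink.LiftCheck1

/-! The lifts have the generators of the group in `GL(28,2)` as images. -/

set_option autoImplicit false
set_option maxRecDepth 100000
set_option Elab.async false

namespace CfsgLib.Sporadic.RuLink

open Cfsg Finset
open CfsgLib.Sporadic
open CfsgLib.Sporadic.Rudvalis (flatZ)

theorem img_basis0 : ∀ k : Fin 28, ∀ c : Fin 56,
    dotc (basisB k) (rowsOf0 c) = 4 * val (Data.liftB0.getD k (0, 0, 0)) c := by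
  decide +kernel

theorem img_phi0 : ∀ k i : Fin 28, phiC (Data.liftB0.getD k (0, 0, 0)) i = mbit Data.liftPhi0 k i := by
  decide +kernel

theorem img_mat0 : ∀ j i : Fin 28,
    (∑ k : Fin 28, mbit Data.unitSel i k * mbit Data.liftPhi0 k j) =
      bb ((RuMod.Data.g0Gen.getD 0 0).testBit (28 * j.val + i.val)) := by
  decide +kernel

theorem mat_lift0 : matOf lift0 = RuMod.dec (RuMod.Data.g0Gen.getD 0 0) := by
  ext j i
  show phiL (act lift0 (unitVec i)) j = bb _
  let A : LV →+ (Fin 28 → ZMod 2) := phiL.comp (AddMonoidHom.mk' (act lift0) (act_add lift0))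
  show A (unitVec i) j = _
  rw [unitVec, map_sum, Finset.sum_apply, ← img_mat0 j i, sum_filter]
  refine sum_congr rfl fun k _ => ?_
  have e : A (basisVec k) j = mbit Data.liftPhi0 k j := by
    show phi (gApp rowsOf0 (cvec (basisB k))) j = _
    rw [show gApp rowsOf0 (cvec (basisB k)) = cvec (Data.liftB0.getD k (0, 0, 0)) from ext_flat fun c => by
      rw [flatZ_gApp, hr_cvec, img_basis0, flatZ_cvec, Int.mul_ediv_cancel_left _ (by norm_num)],
      ← phiC_eq, img_phi0]
  rw [e, mbit, bb]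
  split_ifs <;> simp_all [bb, mbit]

theorem img_basis1 : ∀ k : Fin 28, ∀ c : Fin 56,
    dotc (basisB k) (rowsOf1 c) = 4 * val (Data.liftB1.getD k (0, 0, 0)) c := by
  decide +kernel

theorem img_phi1 : ∀ k i : Fin 28, phiC (Data.liftB1.getD k (0, 0, 0)) i = mbit Data.liftPhi1 k i := by
  decide +kernel

theorem img_mat1 : ∀ j i : Fin 28,
    (∑ k : Fin 28, mbit Data.unitSel i k * mbit Data.liftPhi1 k j) =
      bb ((RuMod.Data.g0Gen.getD 1 0).testBit (28 * j.val + i.val)) := by
  decide +kernel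

theorem mat_lift1 : matOf lift1 = RuMod.dec (RuMod.Data.g0Gen.getD 1 0) := by
  ext j i
  show phiL (act lift1 (unitVec i)) j = bb _
  let A : LV →+ (Fin 28 → ZMod 2) := phiL.comp (AddMonoidHom.mk' (act lift1) (act_add lift1))
  show A (unitVec i) j = _
  rw [unitVec, map_sum, Finset.sum_apply, ← img_mat1 j i, sum_filter]
  refine sum_congr rfl fun k _ => ?_
  have e : A (basisVec k) j = mbit Data.liftPhi1 k j := by
    show phi (gApp rowsOf1 (cvec (basisB k))) j = _
    rw [show gApp rowsOf1 (cvec (basisB k)) = cvec (Data.liftB1.getD k (0, 0, 0)) from ext_flat fun c => by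
      rw [flatZ_gApp, hr_cvec, img_basis1, flatZ_cvec, Int.mul_ediv_cancel_left _ (by norm_num)],
      ← phiC_eq, img_phi1]
  rw [e, mbit, bb]
  split_ifs <;> simp_all [bb, mbit]

end CfsgLib.Sporadic.RuLink
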