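import Cfsg.Agent.Lib.Sporadic.RuLink.Closure
import Cfsg.Agent.Lib.Sporadic.RuLink.LiftData

/-!
# Lifts of two matrices to automorphisms of the Rudvalis lattice
-/

set_option autoImplicit false
set_option maxRecDepth 100000

namespace CfsgLib.Sporadic.RuLink

open Cfsg Finset
open CfsgLib.Sporadic.Rudvalis (flatZ red ip_zero red_mem_W4)

theorem four_dvd_hr {u v : Spor.RuVec} (hu : u ∈ Spor.ruLattice) (hv : v ∈ Spor.ruLattice) :
    (4 : ℤ) ∣ hr u v := by
  refine (ZMod.intCast_zmod_eq_zero_iff_dvd _ 4).1 ?_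
  rw [← ip_zero (red_mem_W4 hu) (red_mem_W4 hv)]
  simp only [hr, Rudvalis.ip]
  push_cast
  rfl

/-- A linear map given by the preimages `n` and the images `m` of four times the unit vectors. -/
structure Iso56 where
  n : ℕ → Code
  m : ℕ → Code
  memN : ∀ c : Fin 56, inL (n c) = true
  memM : ∀ c : Fin 56, inL (m c) = true
  transp : ∀ c e : Fin 56, val (n c) e = val (m e) c
  orthN : ∀ c e : Fin 56, dotc (n c) (n e) = if c = e then 16 else 0
  orthM : ∀ c e : Fin 56, dotc (m c) (m e) = if c = e then 16 else 0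
  imgS : ℕ → Code
  imgS_mem : ∀ k : Fin 40, inL (imgS k) = true
  imgS_eq : ∀ (k : Fin 40) (c : Fin 56), dotc (genS k) (n c) = 4 * val (imgS k) c
  iRow : ∀ c e : Fin 56, val (iCode (n c)) e =
    if h : c.val % 2 = 0 then val (n (c.val + 1)) e else - val (n (c.val - 1)) e

/-- The map with rows `n`. -/
noncomputable def gApp (n : ℕ → Code) (v : Spor.RuVec) : Spor.RuVec := mk fun c => hr v (cvec (n c)) / 4

theorem flatZ_gApp (n : ℕ → Code) (v : Spor.RuVec) (c : Fin 56) :
    flatZ (gApp n v) c = hr v (cvec (n c)) / 4 := flatZ_mk _ _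

theorem gApp_exact {n : ℕ → Code} (hn : ∀ c : Fin 56, inL (n c) = true) {v : Spor.RuVec}
    (hv : v ∈ Spor.ruLattice) (c : Fin 56) : 4 * flatZ (gApp n v) c = hr v (cvec (n c)) := by
  rw [flatZ_gApp, Int.mul_ediv_cancel' (four_dvd_hr hv (cvec_mem (hn c)))]

theorem gApp_add {n : ℕ → Code} (hn : ∀ c : Fin 56, inL (n c) = true) {u v : Spor.RuVec}
    (hu : u ∈ Spor.ruLattice) (hv : v ∈ Spor.ruLattice) : gApp n (u + v) = gApp n u + gApp n v := by
  refine ext_flat fun c => ?_
  have h1 := gApp_exact hn (add_mem hu hv) c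
  rw [hr_add_left, ← gApp_exact hn hu c, ← gApp_exact hn hv c] at h1
  rw [flatZ_add]
  linarith

/-- Composition of orthogonal transposes. -/
theorem gApp_gApp {n m : ℕ → Code} (hn : ∀ c : Fin 56, inL (n c) = true)
    (ht : ∀ c e : Fin 56, val (n c) e = val (m e) c)
    (ho : ∀ c e : Fin 56, dotc (m c) (m e) = if c = e then 16 else 0) {v : Spor.RuVec}
    (hv : v ∈ Spor.ruLattice) (c : Fin 56) : hr (gApp n v) (cvec (m c)) = 4 * flatZ v c := by
  have h : (4 : ℤ) * hr (gApp n v) (cvec (m c)) = 16 * flatZ v c := by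
    have e : ∀ a b : Fin 56, dotc (m a) (m b) = ∑ d : Fin 56, val (n d) a * val (n d) b := by
      intro a b
      rw [← hr_cvec]
      simp only [hr, flatZ_cvec, ht]
    calc (4 : ℤ) * hr (gApp n v) (cvec (m c))
        = ∑ d : Fin 56, hr v (cvec (n d)) * val (n d) c := by
          simp only [hr, flatZ_cvec, mul_sum]
          refine sum_congr rfl fun d _ => ?_
          rw [← mul_assoc, gApp_exact hn hv d, ht d c]
          simp only [hr, flatZ_cvec, sum_mul]
      _ = ∑ x : Fin 56, flatZ v x * dotc (m x) (m c) := by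
          simp only [e, hr, flatZ_cvec, sum_mul, mul_sum]
          rw [sum_comm]
          exact sum_congr rfl fun x _ => sum_congr rfl fun d _ => by ring
      _ = 16 * flatZ v c := by
          rw [sum_eq_single c]
          · rw [ho, if_pos rfl, mul_comm]
          · intro x _ hx; rw [ho, if_neg hx, mul_zero]
          · simp
  linarith

theorem gApp_mem (G : Iso56) {v : Spor.RuVec} (hv : v ∈ Spor.ruLattice) : gApp G.n v ∈ Spor.ruLattice := by
  let p : AddSubgroup Spor.RuVec :=
    { carrier := {u | u ∈ Spor.ruLattice ∧ gApp G.n u ∈ Spor.ruLattice}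
      zero_mem' := ⟨zero_mem _, by
        rw [show gApp G.n 0 = 0 from ext_flat fun c => by rw [flatZ_gApp, hr_zero_left, flatZ_zero]; rfl]
        exact zero_mem _⟩
      add_mem' := fun {a b} ha hb => ⟨add_mem ha.1 hb.1, by rw [gApp_add G.memN ha.1 hb.1]; exact add_mem ha.2 hb.2⟩
      neg_mem' := fun {a} ha => ⟨neg_mem ha.1, by
        have h := gApp_add G.memN ha.1 (neg_mem ha.1)
        rw [add_neg_cancel, show gApp G.n 0 = 0 from ext_flat fun c => by rw [flatZ_gApp, hr_zero_left, flatZ_zero]; rfl,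
          eq_comm, add_eq_zero_iff_eq_neg'] at h
        rw [h]; exact neg_mem ha.2⟩ }
  have : v ∈ p := by
    refine lattice_le p (fun k => ⟨genS_mem k, ?_⟩) (fun c => ⟨four_mem c, ?_⟩) (red_mem_W4 hv)
    · rw [show gApp G.n (cvec (genS k)) = cvec (G.imgS k) from ext_flat fun c => ?_]
      · exact cvec_mem (G.imgS_mem k)
      · rw [flatZ_gApp, hr_cvec, G.imgS_eq, flatZ_cvec, Int.mul_ediv_cancel_left _ (by norm_num)]
    · rw [show gApp G.n (cvec (fourCode c)) = cvec (G.m c) from ext_flat fun d => ?_]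
      · exact cvec_mem (G.memM c)
      · rw [flatZ_gApp, hr_comm, hr_fourCode, flatZ_cvec, flatZ_cvec, Int.mul_ediv_cancel_left _ (by norm_num),
          G.transp]
  exact this.2

theorem gApp_norm (G : Iso56) {v : Spor.RuVec} (hv : v ∈ Spor.ruLattice) :
    Spor.ruNorm (gApp G.n v) = Spor.ruNorm v := by
  rw [← hr_self, ← hr_self]
  have h : (4 : ℤ) * hr (gApp G.n v) (gApp G.n v) = 4 * hr v v := by
    calc (4 : ℤ) * hr (gApp G.n v) (gApp G.n v)
        = ∑ d : Fin 56, flatZ (gApp G.n v) d * hr v (cvec (G.n d)) := by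
          simp only [hr, mul_sum]
          refine sum_congr rfl fun d _ => ?_
          rw [show ∑ x : Fin 56, flatZ (gApp G.n v) d * (flatZ v x * flatZ (cvec (G.n d)) x) =
            flatZ (gApp G.n v) d * hr v (cvec (G.n d)) by simp only [hr, mul_sum], ← gApp_exact G.memN hv d]
          ring
      _ = ∑ x : Fin 56, flatZ v x * hr (gApp G.n v) (cvec (G.m x)) := by
          simp only [hr, flatZ_cvec, mul_sum]
          rw [sum_comm]
          exact sum_congr rfl fun x _ => sum_congr rfl fun d _ => by rw [G.transp]; ring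
      _ = 4 * hr v v := by
          refine (sum_congr rfl fun x _ => ?_).trans (mul_sum _ (fun x : Fin 56 => flatZ v x * flatZ v x) _).symm
          rw [gApp_gApp G.memN G.transp G.orthM hv]
          ring
  linarith

theorem gApp_gI (G : Iso56) {v : Spor.RuVec} (hv : v ∈ Spor.ruLattice) :
    gApp G.n (Spor.gI • v) = Spor.gI • gApp G.n v := by
  refine ext_flat fun c => ?_
  have h := gApp_exact G.memN (Spor.gI_smul_mem_ruLattice hv) c
  rw [hr_gI_left, ← cvec_iCode] at h
  rw [flatZ_gI_eq]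
  split_ifs with hc
  · rw [show cvec (iCode (G.n c)) = cvec (G.n ((⟨c.val + 1, by omega⟩ : Fin 56) : ℕ)) from
      ext_flat fun e => by rw [flatZ_cvec, flatZ_cvec, G.iRow c e, dif_pos hc],
      ← gApp_exact G.memN hv ⟨c.val + 1, by omega⟩] at h
    linarith
  · rw [show cvec (iCode (G.n c)) = - cvec (G.n ((⟨c.val - 1, by omega⟩ : Fin 56) : ℕ)) from
      ext_flat fun e => by rw [flatZ_neg, flatZ_cvec, flatZ_cvec, G.iRow c e, dif_neg hc],
      hr_comm, hr_neg_left, hr_comm, ← gApp_exact G.memN hv ⟨c.val - 1, by omega⟩] at h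
    linarith

/-- The two directions give a permutation of the lattice. -/
noncomputable def liftPerm (G H : Iso56) (h1 : G.n = H.m) (h2 : G.m = H.n) : Equiv.Perm ↥Spor.ruLattice where
  toFun v := ⟨gApp G.n v, gApp_mem G v.2⟩
  invFun v := ⟨gApp H.n v, gApp_mem H v.2⟩
  left_inv v := Subtype.ext (ext_flat fun c => by
    show flatZ (gApp H.n (gApp G.n v)) c = _
    rw [← h2, flatZ_gApp, gApp_gApp G.memN G.transp G.orthM v.2, Int.mul_ediv_cancel_left _ (by norm_num)])
  right_inv v := Subtype.ext (ext_flat fun c => by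
    show flatZ (gApp G.n (gApp H.n v)) c = _
    rw [h1, flatZ_gApp, gApp_gApp H.memN H.transp H.orthM v.2, Int.mul_ediv_cancel_left _ (by norm_num)])

/-- A lift as an automorphism. -/
noncomputable def liftAut (G H : Iso56) (h1 : G.n = H.m) (h2 : G.m = H.n) : Spor.fourRu :=
  ⟨liftPerm G H h1 h2, fun v w => Subtype.ext (gApp_add G.memN v.2 w.2),
    fun v => Subtype.ext (gApp_gI G v.2), fun v => gApp_norm G v.2⟩

end CfsgLib.Sporadic.RuLink
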