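import Cfsg.Agent.Lib.Sporadic.RuLink.Bound
import Cfsg.Agent.Lib.Sporadic.RuGroup
import Cfsg.Agent.Lib.Sporadic.RuLink.Lift

/-!
# Reduction of the lattice modulo `1 + i`
-/

set_option autoImplicit false
set_option maxRecDepth 100000
set_option Elab.async false

namespace CfsgLib.Sporadic.RuLink

open Cfsg Finset
open CfsgLib.Sporadic
open CfsgLib.Sporadic.Rudvalis (flatZ red W4 vec inW gv inW_sound)

/-- The reduction of the Hermitian product. -/
def rpar (v u : Spor.RuVec) : ZMod 2 := (((hr v u + hr v (Spor.gI • u)) / 4 : ℤ) : ZMod 2)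

theorem gI_mem {v : Spor.RuVec} (hv : v ∈ Spor.ruLattice) : Spor.gI • v ∈ Spor.ruLattice :=
  Spor.gI_smul_mem_ruLattice hv

theorem dvd_rsum {v u : Spor.RuVec} (hv : v ∈ Spor.ruLattice) (hu : u ∈ Spor.ruLattice) :
    (4 : ℤ) ∣ hr v u + hr v (Spor.gI • u) :=
  dvd_add (four_dvd_hr hv hu) (four_dvd_hr hv (gI_mem hu))

theorem rpar_add_left {v w u : Spor.RuVec} (hv : v ∈ Spor.ruLattice) (hu : u ∈ Spor.ruLattice) :
    rpar (v + w) u = rpar v u + rpar w u := by
  unfold rpar
  rw [hr_add_left, hr_add_left, add_add_add_comm, Int.add_ediv_of_dvd_left (dvd_rsum hv hu)]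
  push_cast
  rfl

theorem rpar_add_right {v u w : Spor.RuVec} (hv : v ∈ Spor.ruLattice) (hu : u ∈ Spor.ruLattice) :
    rpar v (u + w) = rpar v u + rpar v w := by
  unfold rpar
  rw [smul_add, hr_add_right, hr_add_right, add_add_add_comm, Int.add_ediv_of_dvd_left (dvd_rsum hv hu)]
  push_cast
  rfl

theorem rpar_gI_right {v u : Spor.RuVec} (hv : v ∈ Spor.ruLattice) (hu : u ∈ Spor.ruLattice) :
    rpar v (Spor.gI • u) = rpar v u := by
  unfold rpar
  obtain ⟨a, ha⟩ := four_dvd_hr hv hu
  obtain ⟨b, hb⟩ := four_dvd_hr hv (gI_mem hu)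
  rw [gI_gI, show hr v (-u) = - hr v u by rw [hr_comm, hr_neg_left, hr_comm], ha, hb,
    show 4 * b + -(4 * a) = 4 * (b - a) by ring, show 4 * a + 4 * b = 4 * (a + b) by ring,
    Int.mul_ediv_cancel_left _ (by norm_num), Int.mul_ediv_cancel_left _ (by norm_num), Int.cast_sub, Int.cast_add]
  generalize (a : ZMod 2) = x
  generalize (b : ZMod 2) = y
  revert x y
  decide

theorem rpar_gI_left {v u : Spor.RuVec} (hv : v ∈ Spor.ruLattice) (hu : u ∈ Spor.ruLattice) :
    rpar (Spor.gI • v) u = rpar v u := by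
  have h : rpar (Spor.gI • v) (Spor.gI • u) = rpar v u := by simp [rpar, hr_gI]
  rw [rpar_gI_right (gI_mem hv) hu] at h
  exact h

/-- A basis modulo `1 + i`. -/
def basisB (k : ℕ) : Code := Data.phiBasis.getD k (0, 0, 0)

theorem basis_data : ∀ k : Fin 28, inL (basisB k) = true := by
  decide +kernel

theorem basisB_mem (k : Fin 28) : cvec (basisB k) ∈ Spor.ruLattice := cvec_mem (basis_data k)

/-- A bit in `F₂`. -/
def mbit (l : List ℕ) (j k : ℕ) : ZMod 2 := bb ((l.getD j 0).testBit k)

/-- The coordinates modulo `1 + i`. -/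
noncomputable def phi (v : Spor.RuVec) (j : Fin 28) : ZMod 2 :=
  ∑ k : Fin 28, mbit Data.phiMat j k * rpar v (cvec (basisB k))

theorem phi_add {v w : Spor.RuVec} (hv : v ∈ Spor.ruLattice) (j : Fin 28) :
    phi (v + w) j = phi v j + phi w j := by
  unfold phi
  rw [← sum_add_distrib]
  exact sum_congr rfl fun k _ => by rw [rpar_add_left hv (basisB_mem k)]; ring

theorem phi_gI {v : Spor.RuVec} (hv : v ∈ Spor.ruLattice) : phi (Spor.gI • v) = phi v := by
  funext j
  exact sum_congr rfl fun k _ => by rw [rpar_gI_left hv (basisB_mem k)]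

theorem phiInv_data : ∀ k l : Fin 28,
    (∑ j : Fin 28, mbit Data.phiInv k j * mbit Data.phiMat j l) = if k = l then 1 else 0 := by
  decide +kernel

theorem rpar_basis {v : Spor.RuVec} (h : phi v = 0) (k : Fin 28) : rpar v (cvec (basisB k)) = 0 := by
  have e : ∑ j : Fin 28, mbit Data.phiInv k j * phi v j = rpar v (cvec (basisB k)) := by
    simp only [phi, mul_sum]
    rw [sum_comm, sum_eq_single k]
    · simp only [← mul_assoc, ← sum_mul]
      rw [phiInv_data, if_pos rfl, one_mul]
    · intro l _ hl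
      simp only [← mul_assoc, ← sum_mul]
      rw [phiInv_data, if_neg (Ne.symm hl), zero_mul]
    · simp
  rw [← e, h]
  simp

/-! ### Every vector is a combination of the basis modulo `1 + i` -/

/-- The forty generators and four times the unit vectors. -/
noncomputable def genAt (i : ℕ) : Code :=
  if i < 40 then (nodeAt (Data.sIdx.getD i 0)).1 else fourCode (i - 40)

/-- A coordinate of the half difference. -/
def halfAt (i c : ℕ) : ℤ := (((Data.genHalf.getD i []).getD c 0 : ℕ) : ℤ) - 100

/-- The half difference modulo four, as bit planes. -/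
def halfCode (i : ℕ) : ℕ × ℕ :=
  ((((List.range 56).map fun c => (((halfAt i c) % 4).toNat % 2) * 2 ^ c).sum),
    (((List.range 56).map fun c => (((halfAt i c) % 4).toNat / 2) * 2 ^ c).sum))

theorem half_data0 : ∀ r : Fin 12, inW (halfCode (12 * 0 + r.val)) = true ∧
    ∀ c : Fin 56, ((4 : ℤ) ∣ halfAt (12 * 0 + r.val) c - (gv (halfCode (12 * 0 + r.val)) c : ℤ)) ∧
      val (genAt (12 * 0 + r.val)) c = (∑ k : Fin 28, (if (Data.genSel.getD (12 * 0 + r.val) 0).testBit k then val (basisB k) c else 0)) +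
        (halfAt (12 * 0 + r.val) c + if c.val % 2 = 0 then - halfAt (12 * 0 + r.val) (c.val + 1) else halfAt (12 * 0 + r.val) (c.val - 1)) := by
  decide +kernel

theorem half_data1 : ∀ r : Fin 12, inW (halfCode (12 * 1 + r.val)) = true ∧
    ∀ c : Fin 56, ((4 : ℤ) ∣ halfAt (12 * 1 + r.val) c - (gv (halfCode (12 * 1 + r.val)) c : ℤ)) ∧
      val (genAt (12 * 1 + r.val)) c = (∑ k : Fin 28, (if (Data.genSel.getD (12 * 1 + r.val) 0).testBit k then val (basisB k) c else 0)) +
        (halfAt (12 * 1 + r.val) c + if c.val % 2 = 0 then - halfAt (12 * 1 + r.val) (c.val + 1) else halfAt (12 * 1 + r.val) (c.val - 1)) := by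
  decide +kernel

theorem half_data2 : ∀ r : Fin 12, inW (halfCode (12 * 2 + r.val)) = true ∧
    ∀ c : Fin 56, ((4 : ℤ) ∣ halfAt (12 * 2 + r.val) c - (gv (halfCode (12 * 2 + r.val)) c : ℤ)) ∧
      val (genAt (12 * 2 + r.val)) c = (∑ k : Fin 28, (if (Data.genSel.getD (12 * 2 + r.val) 0).testBit k then val (basisB k) c else 0)) +
        (halfAt (12 * 2 + r.val) c + if c.val % 2 = 0 then - halfAt (12 * 2 + r.val) (c.val + 1) else halfAt (12 * 2 + r.val) (c.val - 1)) := by
  decide +kernel

theorem half_data3 : ∀ r : Fin 12, inW (halfCode (12 * 3 + r.val)) = true ∧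
    ∀ c : Fin 56, ((4 : ℤ) ∣ halfAt (12 * 3 + r.val) c - (gv (halfCode (12 * 3 + r.val)) c : ℤ)) ∧
      val (genAt (12 * 3 + r.val)) c = (∑ k : Fin 28, (if (Data.genSel.getD (12 * 3 + r.val) 0).testBit k then val (basisB k) c else 0)) +
        (halfAt (12 * 3 + r.val) c + if c.val % 2 = 0 then - halfAt (12 * 3 + r.val) (c.val + 1) else halfAt (12 * 3 + r.val) (c.val - 1)) := by
  decide +kernel

theorem half_data4 : ∀ r : Fin 12, inW (halfCode (12 * 4 + r.val)) = true ∧
    ∀ c : Fin 56, ((4 : ℤ) ∣ halfAt (12 * 4 + r.val) c - (gv (halfCode (12 * 4 + r.val)) c : ℤ)) ∧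
      val (genAt (12 * 4 + r.val)) c = (∑ k : Fin 28, (if (Data.genSel.getD (12 * 4 + r.val) 0).testBit k then val (basisB k) c else 0)) +
        (halfAt (12 * 4 + r.val) c + if c.val % 2 = 0 then - halfAt (12 * 4 + r.val) (c.val + 1) else halfAt (12 * 4 + r.val) (c.val - 1)) := by
  decide +kernel

theorem half_data5 : ∀ r : Fin 12, inW (halfCode (12 * 5 + r.val)) = true ∧
    ∀ c : Fin 56, ((4 : ℤ) ∣ halfAt (12 * 5 + r.val) c - (gv (halfCode (12 * 5 + r.val)) c : ℤ)) ∧
      val (genAt (12 * 5 + r.val)) c = (∑ k : Fin 28, (if (Data.genSel.getD (12 * 5 + r.val) 0).testBit k then val (basisB k) c else 0)) +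
        (halfAt (12 * 5 + r.val) c + if c.val % 2 = 0 then - halfAt (12 * 5 + r.val) (c.val + 1) else halfAt (12 * 5 + r.val) (c.val - 1)) := by
  decide +kernel

theorem half_data6 : ∀ r : Fin 12, inW (halfCode (12 * 6 + r.val)) = true ∧
    ∀ c : Fin 56, ((4 : ℤ) ∣ halfAt (12 * 6 + r.val) c - (gv (halfCode (12 * 6 + r.val)) c : ℤ)) ∧
      val (genAt (12 * 6 + r.val)) c = (∑ k : Fin 28, (if (Data.genSel.getD (12 * 6 + r.val) 0).testBit k then val (basisB k) c else 0)) +
        (halfAt (12 * 6 + r.val) c + if c.val % 2 = 0 then - halfAt (12 * 6 + r.val) (c.val + 1) else halfAt (12 * 6 + r.val) (c.val - 1)) := by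
  decide +kernel

theorem half_data7 : ∀ r : Fin 12, inW (halfCode (12 * 7 + r.val)) = true ∧
    ∀ c : Fin 56, ((4 : ℤ) ∣ halfAt (12 * 7 + r.val) c - (gv (halfCode (12 * 7 + r.val)) c : ℤ)) ∧
      val (genAt (12 * 7 + r.val)) c = (∑ k : Fin 28, (if (Data.genSel.getD (12 * 7 + r.val) 0).testBit k then val (basisB k) c else 0)) +
        (halfAt (12 * 7 + r.val) c + if c.val % 2 = 0 then - halfAt (12 * 7 + r.val) (c.val + 1) else halfAt (12 * 7 + r.val) (c.val - 1)) := by
  decide +kernel

theorem half_data (i : Fin 96) : inW (halfCode i) = true ∧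
    ∀ c : Fin 56, ((4 : ℤ) ∣ halfAt i c - (gv (halfCode i) c : ℤ)) ∧
      val (genAt i) c = (∑ k : Fin 28, (if (Data.genSel.getD i 0).testBit k then val (basisB k) c else 0)) +
        (halfAt i c + if c.val % 2 = 0 then - halfAt i (c.val + 1) else halfAt i (c.val - 1)) := by
  obtain ⟨q, r, hq, hc⟩ : ∃ q : ℕ, ∃ r : Fin 12, q < 8 ∧ i.val = 12 * q + r.val :=
    ⟨i.val / 12, ⟨i.val % 12, Nat.mod_lt _ (by norm_num)⟩, by omega, (Nat.div_add_mod _ _).symm⟩
  rw [hc]
  interval_cases q
  · exact half_data0 r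
  · exact half_data1 r
  · exact half_data2 r
  · exact half_data3 r
  · exact half_data4 r
  · exact half_data5 r
  · exact half_data6 r
  · exact half_data7 r

theorem rpar_vanish {v : Spor.RuVec} (hv : v ∈ Spor.ruLattice) (h : phi v = 0) {u : Spor.RuVec}
    (hu : u ∈ Spor.ruLattice) : rpar v u = 0 := by
  let p : AddSubgroup Spor.RuVec :=
    { carrier := {u | u ∈ Spor.ruLattice ∧ rpar v u = 0}
      zero_mem' := ⟨zero_mem _, by simp [rpar, hr_comm v, hr_zero_left]⟩
      add_mem' := fun {a b} ha hb => ⟨add_mem ha.1 hb.1, by rw [rpar_add_right hv ha.1, ha.2, hb.2, add_zero]⟩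
      neg_mem' := fun {a} ha => ⟨neg_mem ha.1, by
        have h := rpar_add_right (w := -a) hv ha.1
        rw [add_neg_cancel, ha.2, zero_add] at h
        rw [← h]; simp [rpar, hr_comm v, hr_zero_left]⟩ }
  have key : ∀ i : Fin 96, cvec (genAt i) ∈ Spor.ruLattice → cvec (genAt i) ∈ p := by
    intro i hmem
    refine ⟨hmem, ?_⟩
    obtain ⟨hW, hc⟩ := half_data i
    have hd : mk (halfAt i) ∈ Spor.ruLattice := by
      rw [mem_lattice_iff, show red (mk (halfAt i)) = vec (halfCode i) from funext fun c => ?_]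
      · exact inW_sound hW
      · show (flatZ _ c : ZMod 4) = (gv (halfCode i) c : ZMod 4)
        rw [flatZ_mk, ← sub_eq_zero, ← Int.cast_natCast (R := ZMod 4), ← Int.cast_sub]
        exact (ZMod.intCast_zmod_eq_zero_iff_dvd _ 4).2 (hc c).1
    have hs : ∀ T : Finset (Fin 28), (∑ k ∈ T, cvec (basisB k)) ∈ Spor.ruLattice ∧
        rpar v (∑ k ∈ T, cvec (basisB k)) = 0 := by
      intro T
      induction T using Finset.induction with
      | empty => exact ⟨by simp, by simp [rpar, hr_comm v, hr_zero_left]⟩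
      | insert a T ha ih =>
        rw [sum_insert ha]
        exact ⟨add_mem (basisB_mem a) ih.1, by rw [rpar_add_right hv (basisB_mem a), rpar_basis h, ih.2, add_zero]⟩
    have e : cvec (genAt i) = (∑ k ∈ univ.filter (fun k : Fin 28 => (Data.genSel.getD i 0).testBit k = true),
        cvec (basisB k)) + (mk (halfAt i) + Spor.gI • mk (halfAt i)) := by
      refine ext_flat fun c => ?_
      rw [flatZ_cvec, (hc c).2, flatZ_add, flatZ_add, flatZ_sum, flatZ_mk, sum_filter]
      congr 1
      · exact sum_congr rfl fun k _ => by rw [flatZ_cvec]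
      · congr 1
        rw [flatZ_gI_eq]
        split_ifs with hp
        · rw [flatZ_mk]
        · rw [flatZ_mk]
    rw [e, rpar_add_right hv (hs _).1, (hs _).2, rpar_add_right hv hd, rpar_gI_right hv hd, zero_add]
    generalize rpar v (mk (halfAt i)) = z
    revert z
    decide
  have : u ∈ p := by
    refine lattice_le p (fun k => ?_) (fun c => ?_) (Rudvalis.red_mem_W4 hu)
    · have e : genAt ((⟨k.val, by omega⟩ : Fin 96) : ℕ) = genS k := if_pos k.isLt
      exact e ▸ key ⟨k.val, by omega⟩ (e.symm ▸ genS_mem k)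
    · have e : genAt ((⟨40 + c.val, by omega⟩ : Fin 96) : ℕ) = fourCode c := by
        show (if _ then _ else _) = _
        rw [if_neg (by simp), Nat.add_sub_cancel_left]
      exact e ▸ key ⟨40 + c.val, by omega⟩ (e.symm ▸ four_mem c)
  exact this.2

/-! ### The representation -/

/-- The coordinate map on the lattice. -/
noncomputable def phiL : LV →+ (Fin 28 → ZMod 2) :=
  AddMonoidHom.mk' (fun v => phi (v : Spor.RuVec)) fun v w => funext fun j => phi_add v.2 j

/-- The basis in the lattice. -/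
noncomputable def basisVec (k : Fin 28) : LV := ⟨cvec (basisB k), basisB_mem k⟩

theorem phi_kernel (g : Spor.fourRu) {v : LV} (h : phi (v : Spor.RuVec) = 0) :
    phi (act g v : Spor.RuVec) = 0 := by
  funext j
  refine sum_eq_zero fun k _ => ?_
  have e : act g (act g⁻¹ (basisVec k)) = basisVec k := by rw [← act_mul, mul_inv_cancel, act_one]
  have h1 := act_hr g v (act g⁻¹ (basisVec k))
  have h2 := act_hr g v (Spor.ruI (act g⁻¹ (basisVec k)))
  rw [e] at h1
  rw [act_ruI, e] at h2
  have : rpar (act g v : Spor.RuVec) (cvec (basisB k)) = rpar (v : Spor.RuVec) (act g⁻¹ (basisVec k) : Spor.RuVec) := by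
    unfold rpar
    rw [show cvec (basisB k) = (basisVec k : Spor.RuVec) from rfl, h1]
    rw [show Spor.gI • (basisVec k : Spor.RuVec) = ((Spor.ruI (basisVec k) : LV) : Spor.RuVec) from rfl, h2]
    rfl
  rw [this, rpar_vanish v.2 h (act g⁻¹ (basisVec k)).2, mul_zero]

/-- A vector with the `i`-th coordinate vector as its image. -/
noncomputable def unitVec (i : Fin 28) : LV :=
  ∑ k ∈ univ.filter (fun k : Fin 28 => (Data.unitSel.getD i 0).testBit k = true), basisVec k

/-- The product modulo two of two codes. -/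
noncomputable def rparC (a b : Code) : ZMod 2 := (((dotc a b + dotc a (iCode b)) / 4 : ℤ) : ZMod 2)

theorem rparC_eq (a b : Code) : rparC a b = rpar (cvec a) (cvec b) := by
  simp only [rparC, rpar, ← hr_cvec, cvec_iCode]

/-- The coordinates of a code. -/
noncomputable def phiC (a : Code) (j : Fin 28) : ZMod 2 :=
  ∑ k : Fin 28, mbit Data.phiMat j k * rparC a (basisB k)

theorem phiC_eq (a : Code) (j : Fin 28) : phiC a j = phi (cvec a) j := by
  simp only [phiC, phi, rparC_eq]

theorem phi_val_data : ∀ k j : Fin 28, phiC (basisB k) j = mbit Data.phiVal k j := by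
  decide +kernel

theorem unit_data : ∀ i j : Fin 28,
    (∑ k : Fin 28, mbit Data.unitSel i k * mbit Data.phiVal k j) = if i = j then 1 else 0 := by
  decide +kernel

theorem phi_unit (i j : Fin 28) : phi (unitVec i : Spor.RuVec) j = if i = j then 1 else 0 := by
  show phiL (unitVec i) j = _
  rw [unitVec, map_sum, Finset.sum_apply, ← unit_data i j, sum_filter]
  refine sum_congr rfl fun k _ => ?_
  show (if _ then phi (cvec (basisB k)) j else 0) = _
  rw [← phiC_eq, phi_val_data, mbit, bb]
  split_ifs <;> simp_all [bb, mbit]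

/-- The matrix of an automorphism. -/
noncomputable def matOf (g : Spor.fourRu) : RuMod.Mat :=
  Matrix.of fun j i => phi (act g (unitVec i) : Spor.RuVec) j

theorem phi_act (g : Spor.fourRu) (v : LV) :
    phi (act g v : Spor.RuVec) = (matOf g).mulVec (phi (v : Spor.RuVec)) := by
  let s : LV := ∑ i ∈ univ.filter (fun i : Fin 28 => phi (v : Spor.RuVec) i = 1), unitVec i
  let A : LV →+ (Fin 28 → ZMod 2) := phiL.comp (AddMonoidHom.mk' (act g) (act_add g))
  have hs : phiL (v - s) = 0 := by
    rw [map_sub, sub_eq_zero]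
    funext j
    show phiL v j = phiL s j
    rw [map_sum, Finset.sum_apply, sum_filter]
    simp only [show ∀ i, phiL (unitVec i) j = phi (unitVec i : Spor.RuVec) j from fun i => rfl, phi_unit]
    rw [sum_eq_single j]
    · show phi (v : Spor.RuVec) j = _
      rw [if_pos rfl]
      generalize phi (v : Spor.RuVec) j = z
      revert z; decide
    · intro i _ hi; simp [hi]
    · simp
  have h0 : A (v - s) = 0 := phi_kernel g hs
  rw [map_sub, sub_eq_zero] at h0
  show A v = _
  rw [h0, map_sum]
  funext j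
  rw [Finset.sum_apply, sum_filter]
  show _ = ∑ i, matOf g j i * phi (v : Spor.RuVec) i
  refine sum_congr rfl fun i _ => ?_
  show (if _ then matOf g j i else 0) = _
  generalize phi (v : Spor.RuVec) i = z
  revert z
  generalize matOf g j i = y
  revert y
  decide

/-- The representation on the lattice modulo `1 + i`. -/
noncomputable def matHom : Spor.fourRu →* RuMod.Mat where
  toFun := matOf
  map_one' := by
    ext j i
    show phi (act 1 (unitVec i) : Spor.RuVec) j = _
    rw [act_one, phi_unit, Matrix.one_apply]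
    exact if_congr eq_comm rfl rfl
  map_mul' g h := by
    ext j i
    show phi (act (g * h) (unitVec i) : Spor.RuVec) j = _
    rw [act_mul, phi_act]
    rfl

/-- The representation in `GL(28,2)`. -/
noncomputable def glHom : Spor.fourRu →* RuMod.G28 := matHom.toHomUnits

end CfsgLib.Sporadic.RuLink
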