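import Cfsg.Agent.Lib.Sporadic.RuLink.Units
import Cfsg.Agent.Lib.Sporadic.RuLink.LatticeData
import Cfsg.Agent.Lib.Sporadic.RuLink.ClassData

/-!
# Profiles with respect to six vectors
-/

set_option autoImplicit false
set_option maxRecDepth 100000

namespace CfsgLib.Sporadic.RuLink

open CfsgLib.Sporadic

/-- The base vectors. -/
def baseAt (k : ℕ) : Code := Data.bases.getD k (0, 0, 0)

/-- Whether `m` has the same products as `t` with the `k`-th base vector and its multiple by `i`. -/
noncomputable def sameDot (t m : Code) (k : ℕ) : Bool :=
  decide (dotc m (baseAt k) = dotc t (baseAt k)) &&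
    decide (dotc m (iCode (baseAt k)) = dotc t (iCode (baseAt k)))

/-- A coordinate, as computed by the kernel. -/
noncomputable def valK (a : Code) (c : ℕ) : ℤ :=
  (a.1 : ℤ) * Int.subNatNat (cond (bit0 a.2.1 c) 1 0) (cond (bit0 a.2.2 c) 1 0)

/-- Whether `m` and `t` agree at a coordinate. -/
noncomputable def sameAt (t m : Code) (c : ℕ) : Bool := decide (valK m c = valK t c)

/-- Whether `m` has the same products as `t` with the first `k` base vectors; the first one is a multiple
of a coordinate vector. -/
noncomputable def sameProfile (t : Code) (k : ℕ) (m : Code) : Bool :=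
  Nat.rec true (fun j acc => acc &&
    cond (Nat.beq j 0) (sameAt t m 0 && sameAt t m 1) (sameDot t m j)) k

/-- The first four sign bits of a packed mask. -/
noncomputable def headBits (x : ℕ) : ℕ := Nat.land x 216172782113783811

/-- The first sign bits of a code. -/
noncomputable def headOf (t : Code) : ℕ := headBits (Nat.lor t.2.1 (Nat.shiftLeft t.2.2 56))

/-- Filtering, for the kernel. -/
noncomputable def selK {α : Type} (p : α → Bool) (l : List α) : List α :=
  List.rec [] (fun a _ ih => cond (p a) (a :: ih) ih) l

theorem selK_eq {α : Type} (p : α → Bool) : ∀ l : List α, selK p l = l.filter p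
  | [] => rfl
  | a :: l => by
    show cond (p a) (a :: selK p l) (selK p l) = _
    rw [selK_eq p l, List.filter_cons]
    cases p a <;> rfl

/-- The possible images of `t` under a map fixing the first `k` base vectors. -/
noncomputable def cands (t : Code) (k : ℕ) : List Code :=
  selK (sameProfile t k) fourList ++
    selK (sameProfile t k) ((selK (fun x => Nat.beq (headBits x) (headOf t)) Data.units).map unpack)

/-- The same, inside the class of the second base vector. -/
noncomputable def candsOne (t : Code) (k : ℕ) : List Code :=
  selK (sameProfile t k) fourList ++ selK (sameProfile t k) (Data.classOne.map unpack)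

end CfsgLib.Sporadic.RuLink
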