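import Cfsg.Agent.Lib.Sporadic.RuLink.Profile
import Cfsg.Agent.Lib.Sporadic.RuLink.Closure

/-! Kernel checks for the profiles. -/

set_option autoImplicit false
set_option maxRecDepth 200000
set_option Elab.async false

namespace CfsgLib.Sporadic.RuLink

open CfsgLib.Sporadic

theorem units_disjoint : (Data.units.all fun x => Nat.beq (Nat.land (Nat.land x 72057594037927935) (Nat.shiftRight x 56)) 0) = true := by
  decide +kernel

theorem classOne_eq : selK (fun x => Nat.beq (headBits x) (headOf (baseAt 1))) Data.units = Data.classOne := by
  decide +kernel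

theorem base_data : ∀ k : Fin 6, inL (baseAt k) = true ∧ dotc (baseAt k) (baseAt k) = 16 ∧
    (k.val ≠ 0 → k.val ≠ 4 → (baseAt k).1 = 1 ∧ headOf (baseAt k) = headOf (baseAt 1)) := by
  decide +kernel

theorem base_zero : baseAt 0 = fourCode 0 := by
  decide +kernel

theorem count_one : Nat.beq (candsOne (baseAt 1) 1).length 2304 = true := by
  decide +kernel

theorem count_two : Nat.beq (candsOne (baseAt 2) 2).length 78 = true := by
  decide +kernel

theorem count_three : Nat.beq (candsOne (baseAt 3) 3).length 2 = true := by
  decide +kernel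

theorem count_four : Nat.beq (cands (baseAt 4) 4).length 25 = true := by
  decide +kernel

theorem count_five : Nat.beq (candsOne (baseAt 5) 5).length 4 = true := by
  decide +kernel

theorem minList_count : Nat.beq (fourList.length + Data.units.length) 16240 = true := by
  decide +kernel

/-- The fixed vectors. -/
def fixedAt (i : Fin 28) : Code := Data.fixed.getD i (0, 0, 0)

theorem fixed_data : ∀ i : Fin 28, inL (fixedAt i) = true ∧ dotc (fixedAt i) (fixedAt i) = 16 ∧
    (fixedAt i).1 = 1 ∧ headOf (fixedAt i) = headOf (baseAt 1) := by
  decide +kernel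

/-- Equality of codes. -/
noncomputable def codeBeq (a b : Code) : Bool := Nat.beq a.1 b.1 && Nat.beq a.2.1 b.2.1 && Nat.beq a.2.2 b.2.2

end CfsgLib.Sporadic.RuLink
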