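import Cfsg.Agent.Lib.Sporadic.RuLink.ProfileChecks

/-! Kernel checks for the vectors fixed by the profiles. -/

set_option autoImplicit false
set_option maxRecDepth 200000
set_option Elab.async false

namespace CfsgLib.Sporadic.RuLink

open CfsgLib.Sporadic

theorem fixed_four : (fourList.all fun m => Data.fixed.all fun t => !sameProfile t 6 m || codeBeq m t) = true := by
  decide +kernel

theorem fixed_class0 : (Data.classOne0.all fun x => Data.fixed.all fun t =>
    !sameProfile t 6 (unpack x) || codeBeq (unpack x) t) = true := by
  decide +kernel

theorem fixed_class1 : (Data.classOne1.all fun x => Data.fixed.all fun t =>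
    !sameProfile t 6 (unpack x) || codeBeq (unpack x) t) = true := by
  decide +kernel

theorem fixed_class2 : (Data.classOne2.all fun x => Data.fixed.all fun t =>
    !sameProfile t 6 (unpack x) || codeBeq (unpack x) t) = true := by
  decide +kernel

theorem fixed_class3 : (Data.classOne3.all fun x => Data.fixed.all fun t =>
    !sameProfile t 6 (unpack x) || codeBeq (unpack x) t) = true := by
  decide +kernel

theorem fixed_class4 : (Data.classOne4.all fun x => Data.fixed.all fun t =>
    !sameProfile t 6 (unpack x) || codeBeq (unpack x) t) = true := by
  decide +kernel

theorem fixed_class : (Data.classOne.all fun x => Data.fixed.all fun t =>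
    !sameProfile t 6 (unpack x) || codeBeq (unpack x) t) = true := by
  simp only [Data.classOne, List.all_append, fixed_class0, fixed_class1, fixed_class2, fixed_class3, fixed_class4, Bool.and_self]

end CfsgLib.Sporadic.RuLink
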