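import Mathlib

/-!
# Bit-sliced enumeration

A number of `2 ^ n` bits stands for a set of `n`-bit numbers.
-/

set_option autoImplicit false

namespace CfsgLib.Sporadic.RuLink

/-- The numbers below `2 ^ (i + 1 + k)` with bit `i` set. -/
noncomputable def pat (i : ℕ) : ℕ → ℕ
  | 0 => Nat.shiftLeft (Nat.sub (Nat.shiftLeft 1 (Nat.pow 2 i)) 1) (Nat.pow 2 i)
  | k + 1 => Nat.lor (pat i k) (Nat.shiftLeft (pat i k) (Nat.pow 2 (i + 1 + k)))

theorem testBit_ones (N m : ℕ) : (Nat.sub (Nat.shiftLeft 1 N) 1).testBit m = decide (m < N) := by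
  show (1 <<< N - 1).testBit m = _
  rw [Nat.shiftLeft_eq, one_mul, Nat.testBit_two_pow_sub_one]

theorem testBit_of_lt_two_pow_succ {m i : ℕ} (h : m < 2 ^ (i + 1)) : m.testBit i = decide (2 ^ i ≤ m) := by
  by_cases hh : 2 ^ i ≤ m
  · rw [decide_eq_true hh, show m = 2 ^ i + (m - 2 ^ i) by omega, Nat.testBit_two_pow_add_eq,
      Nat.testBit_lt_two_pow]
    · rfl
    · rw [pow_succ] at h; omega
  · rw [decide_eq_false hh, Nat.testBit_lt_two_pow (by omega)]

theorem testBit_pat (i : ℕ) : ∀ k m : ℕ, (pat i k).testBit m = (decide (m < 2 ^ (i + 1 + k)) && m.testBit i)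
  | 0, m => by
    show ((Nat.sub (Nat.shiftLeft 1 (2 ^ i)) 1) <<< (2 ^ i)).testBit m = _
    rw [Nat.testBit_shiftLeft, testBit_ones, Nat.add_zero]
    by_cases h : m < 2 ^ (i + 1)
    · rw [decide_eq_true h, Bool.true_and, testBit_of_lt_two_pow_succ h]
      by_cases hh : 2 ^ i ≤ m
      · have : m - 2 ^ i < 2 ^ i := by rw [pow_succ] at h; omega
        simp [hh, this]
      · simp [hh]
    · rw [decide_eq_false h, Bool.false_and, pow_succ] at *
      have : ¬ m - 2 ^ i < 2 ^ i := by omega
      simp [this]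
  | k + 1, m => by
    show (pat i k ||| (pat i k <<< (2 ^ (i + 1 + k)))).testBit m = _
    rw [Nat.testBit_or, Nat.testBit_shiftLeft, testBit_pat i k, testBit_pat i k,
      show i + 1 + (k + 1) = i + 1 + k + 1 by omega]
    by_cases h1 : m < 2 ^ (i + 1 + k)
    · have h2 : m < 2 ^ (i + 1 + k + 1) := by rw [pow_succ]; omega
      have h3 : ¬ m ≥ 2 ^ (i + 1 + k) := by omega
      simp [h1, h2, h3]
    · have h3 : m ≥ 2 ^ (i + 1 + k) := by omega
      have key : (m - 2 ^ (i + 1 + k)).testBit i = m.testBit i := by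
        conv_rhs => rw [show m = 2 ^ (i + 1 + k) * 1 + (m - 2 ^ (i + 1 + k)) by omega]
        obtain ⟨r, hr⟩ : ∃ r, r = m - 2 ^ (i + 1 + k) := ⟨_, rfl⟩
        rw [← hr]
        clear hr h1 h3
        simp only [Nat.testBit_eq_decide_div_mod_eq]
        congr 2
        rw [show i + 1 + k = i + (k + 1) by omega, pow_add, mul_one,
          Nat.mul_add_div (Nat.two_pow_pos i), pow_succ]
        omega
      rw [key]
      by_cases h2 : m < 2 ^ (i + 1 + k + 1)
      · have h4 : m - 2 ^ (i + 1 + k) < 2 ^ (i + 1 + k) := by rw [pow_succ] at h2; omega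
        simp [h1, h2, h3, h4]
      · have h4 : ¬ m - 2 ^ (i + 1 + k) < 2 ^ (i + 1 + k) := by rw [pow_succ] at h2; omega
        simp [h1, h2, h4]

/-- The lowest bit. -/
noncomputable def bit0 (g i : ℕ) : Bool := Nat.beq (Nat.land (Nat.shiftRight g i) 1) 1

theorem bit0_eq (g i : ℕ) : bit0 g i = g.testBit i := by
  show Nat.beq ((g >>> i) &&& 1) 1 = _
  rw [Nat.and_one_is_mod, Nat.testBit_eq_decide_div_mod_eq, Nat.shiftRight_eq_div_pow]
  rcases Nat.mod_two_eq_zero_or_one (g / 2 ^ i) with h | h <;> rw [h] <;> rfl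

/-- The parity of `g &&& m` on `n` bits. -/
noncomputable def par (g m : ℕ) (n : ℕ) : Bool :=
  Nat.rec false (fun i acc => cond (bit0 g i) (acc ^^ m.testBit i) acc) n

theorem par_succ (g m n : ℕ) : par g m (n + 1) = ((g.testBit n && m.testBit n) ^^ par g m n) := by
  show (cond (bit0 g n) (par g m n ^^ m.testBit n) (par g m n)) = _
  rw [bit0_eq]
  cases g.testBit n <;> cases m.testBit n <;> cases par g m n <;> rfl

/-- The xor of the patterns selected by `g`. -/
noncomputable def xorSel (d g : ℕ) (n : ℕ) : ℕ :=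
  Nat.rec 0 (fun i acc => cond (bit0 g i) (Nat.xor acc (pat i (Nat.sub d (i + 1)))) acc) n

theorem testBit_xorSel (d g : ℕ) : ∀ n m : ℕ, n ≤ d → m < 2 ^ d →
    (xorSel d g n).testBit m = par g m n
  | 0, m, _, _ => Nat.zero_testBit m
  | n + 1, m, hn, hm => by
    show Nat.testBit (cond (bit0 g n) (xorSel d g n ^^^ pat n (d - (n + 1))) (xorSel d g n)) m =
      cond (bit0 g n) (par g m n ^^ m.testBit n) (par g m n)
    have ih := testBit_xorSel d g n m (by omega) hm
    cases bit0 g n
    · exact ih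
    · simp only [cond_true]
      rw [Nat.testBit_xor, ih, testBit_pat, show n + 1 + (d - (n + 1)) = d by omega, decide_eq_true hm]
      rfl

/-- The set of a list of numbers. -/
noncomputable def listMask : List ℕ → ℕ
  | [] => 0
  | a :: l => Nat.lor (Nat.shiftLeft 1 a) (listMask l)

theorem mem_of_testBit_listMask : ∀ {l : List ℕ} {m : ℕ}, (listMask l).testBit m = true → m ∈ l
  | [], m, h => by simp [listMask] at h
  | a :: l, m, h => by
    rw [show listMask (a :: l) = 1 <<< a ||| listMask l from rfl, Nat.testBit_or, Bool.or_eq_true,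
      Nat.shiftLeft_eq, one_mul, Nat.testBit_two_pow, decide_eq_true_eq] at h
    rcases h with h | h
    · exact h ▸ List.mem_cons_self
    · exact List.mem_cons_of_mem _ (mem_of_testBit_listMask h)

/-- One more column for the thresholds. -/
noncomputable def stepT : ℕ → List ℕ → ℕ → List ℕ
  | _, [], _ => []
  | prev, t :: r, x => Nat.lor t (Nat.land prev x) :: stepT t r x

theorem stepT_length : ∀ (l : List ℕ) (p x : ℕ), (stepT p l x).length = l.length
  | [], _, _ => rfl
  | _ :: r, _, _ => by simp [stepT, stepT_length r]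

theorem stepT_get : ∀ (l : List ℕ) (p x k m : ℕ), k < l.length →
    ((stepT p l x).getD k 0).testBit m =
      ((l.getD k 0).testBit m || ((if k = 0 then p else l.getD (k - 1) 0).testBit m && x.testBit m))
  | [], _, _, _, _, h => absurd h (by simp)
  | t :: r, p, x, 0, m, _ => by
    show (t ||| (p &&& x)).testBit m = _
    simp
  | t :: r, p, x, k + 1, m, h => by
    show ((stepT t r x).getD k 0).testBit m = _
    rw [stepT_get r t x k m (by simpa using h)]
    cases k <;> simp

/-- The threshold sets after the first `n` columns. -/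
noncomputable def thr (d K : ℕ) (col : ℕ → ℕ) (n : ℕ) : List ℕ :=
  Nat.rec (List.replicate K 0) (fun c acc => stepT (Nat.sub (Nat.shiftLeft 1 (Nat.pow 2 d)) 1) acc (col c)) n

theorem thr_spec (d K : ℕ) (col : ℕ → ℕ) : ∀ n, (thr d K col n).length = K ∧ ∀ k < K, ∀ m < 2 ^ d,
    ((thr d K col n).getD k 0).testBit m =
      decide (k + 1 ≤ ∑ c ∈ Finset.range n, ((col c).testBit m).toNat)
  | 0 => by
    refine ⟨by simp [thr], fun k hk m _ => ?_⟩
    simp [thr, hk]
  | n + 1 => by
    obtain ⟨hl, h⟩ := thr_spec d K col n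
    refine ⟨by show (stepT _ _ _).length = K; rw [stepT_length]; exact hl, fun k hk m hm => ?_⟩
    show ((stepT _ (thr d K col n) _).getD k 0).testBit m = _
    rw [stepT_get _ _ _ _ _ (hl.symm ▸ hk), h k hk m hm, Finset.sum_range_succ]
    rcases k with _ | k
    · rw [if_pos rfl, testBit_ones, decide_eq_true (show m < Nat.pow 2 d from hm)]
      cases (col n).testBit m <;> simp
    · rw [if_neg (by omega), Nat.add_sub_cancel, h k (by omega) m hm]
      cases (col n).testBit m <;> simp
      omega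

end CfsgLib.Sporadic.RuLink
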