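import Cfsg.Agent.Lib.Sporadic.RuLink.Classify
import Cfsg.Agent.Lib.Sporadic.RuLink.UnitData

/-! The packed list is the list of minimal vectors with unit entries. -/

set_option autoImplicit false
set_option maxRecDepth 200000
set_option Elab.async false

namespace CfsgLib.Sporadic.RuLink

/-- The code of a packed sign mask. -/
noncomputable def unpack (x : ℕ) : Code := (1, Nat.land x 72057594037927935, Nat.shiftRight x 56)

theorem units_eq0 : Data.words0.flatMap wordCodes = Data.units0.map unpack := by
  decide +kernel

theorem units_eq1 : Data.words1.flatMap wordCodes = Data.units1.map unpack := by
  decide +kernel

theorem units_eq2 : Data.words2.flatMap wordCodes = Data.units2.map unpack := by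
  decide +kernel

theorem units_eq3 : Data.words3.flatMap wordCodes = Data.units3.map unpack := by
  decide +kernel

theorem units_eq4 : Data.words4.flatMap wordCodes = Data.units4.map unpack := by
  decide +kernel

theorem units_eq5 : Data.words5.flatMap wordCodes = Data.units5.map unpack := by
  decide +kernel

theorem units_eq6 : Data.words6.flatMap wordCodes = Data.units6.map unpack := by
  decide +kernel

theorem units_eq7 : Data.words7.flatMap wordCodes = Data.units7.map unpack := by
  decide +kernel

theorem units_eq8 : Data.words8.flatMap wordCodes = Data.units8.map unpack := by
  decide +kernel

theorem units_eq9 : Data.words9.flatMap wordCodes = Data.units9.map unpack := by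
  decide +kernel

theorem units_eq10 : Data.words10.flatMap wordCodes = Data.units10.map unpack := by
  decide +kernel

theorem units_eq11 : Data.words11.flatMap wordCodes = Data.units11.map unpack := by
  decide +kernel

theorem units_eq12 : Data.words12.flatMap wordCodes = Data.units12.map unpack := by
  decide +kernel

theorem units_eq13 : Data.words13.flatMap wordCodes = Data.units13.map unpack := by
  decide +kernel

theorem units_eq14 : Data.words14.flatMap wordCodes = Data.units14.map unpack := by
  decide +kernel

theorem units_eq15 : Data.words15.flatMap wordCodes = Data.units15.map unpack := by
  decide +kernel

theorem units_eq16 : Data.words16.flatMap wordCodes = Data.units16.map unpack := by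
  decide +kernel

theorem units_eq17 : Data.words17.flatMap wordCodes = Data.units17.map unpack := by
  decide +kernel

theorem units_eq : Data.words.flatMap wordCodes = Data.units.map unpack := by
  simp only [Data.words, Data.units, List.flatMap_append, List.map_append, units_eq0, units_eq1, units_eq2, units_eq3, units_eq4, units_eq5, units_eq6, units_eq7, units_eq8, units_eq9, units_eq10, units_eq11, units_eq12, units_eq13, units_eq14, units_eq15, units_eq16, units_eq17]

end CfsgLib.Sporadic.RuLink
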