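import Cfsg.Agent.Lib.Sporadic.RuLink.Words

/-! Generated kernel checks for the parity words. -/

set_option autoImplicit false
set_option maxRecDepth 100000
set_option Elab.async false

namespace CfsgLib.Sporadic.RuLink

theorem words_ok0 : (Data.words0.all fun w => wordOK w && wordRight w) = true := by
  decide +kernel

theorem words_ok1 : (Data.words1.all fun w => wordOK w && wordRight w) = true := by
  decide +kernel

theorem words_ok2 : (Data.words2.all fun w => wordOK w && wordRight w) = true := by
  decide +kernel

theorem words_ok3 : (Data.words3.all fun w => wordOK w && wordRight w) = true := by
  decide +kernel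

theorem words_ok4 : (Data.words4.all fun w => wordOK w && wordRight w) = true := by
  decide +kernel

theorem words_ok5 : (Data.words5.all fun w => wordOK w && wordRight w) = true := by
  decide +kernel

theorem words_ok6 : (Data.words6.all fun w => wordOK w && wordRight w) = true := by
  decide +kernel

theorem words_ok7 : (Data.words7.all fun w => wordOK w && wordRight w) = true := by
  decide +kernel

theorem words_ok8 : (Data.words8.all fun w => wordOK w && wordRight w) = true := by
  decide +kernel

theorem words_ok9 : (Data.words9.all fun w => wordOK w && wordRight w) = true := by
  decide +kernel

theorem words_ok10 : (Data.words10.all fun w => wordOK w && wordRight w) = true := by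
  decide +kernel

theorem words_ok11 : (Data.words11.all fun w => wordOK w && wordRight w) = true := by
  decide +kernel

theorem words_ok12 : (Data.words12.all fun w => wordOK w && wordRight w) = true := by
  decide +kernel

theorem words_ok13 : (Data.words13.all fun w => wordOK w && wordRight w) = true := by
  decide +kernel

theorem words_ok14 : (Data.words14.all fun w => wordOK w && wordRight w) = true := by
  decide +kernel

theorem words_ok15 : (Data.words15.all fun w => wordOK w && wordRight w) = true := by
  decide +kernel

theorem words_ok16 : (Data.words16.all fun w => wordOK w && wordRight w) = true := by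
  decide +kernel

theorem words_ok17 : (Data.words17.all fun w => wordOK w && wordRight w) = true := by
  decide +kernel

theorem words_cover : Nat.beq (Nat.lor ((thr 19 17 colW 56).getD 16 0) (listMask (Data.words.map Prod.fst)))
    (Nat.sub (Nat.shiftLeft 1 (Nat.pow 2 19)) 1) = true := by
  decide +kernel

theorem syn_distinct : (synAcc 3136).2 = true := by
  decide +kernel

theorem blocks_ok : forallLt 7 blockOK = true := by
  decide +kernel

theorem words_ok {w : Word} (h : w ∈ Data.words) : wordOK w = true ∧ wordRight w = true := by
  have e : (Data.words.all fun w => wordOK w && wordRight w) = true := by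
    rw [Data.words]
    simp only [List.all_append, words_ok0, words_ok1, words_ok2, words_ok3, words_ok4, words_ok5, words_ok6, words_ok7, words_ok8, words_ok9, words_ok10, words_ok11, words_ok12, words_ok13, words_ok14, words_ok15, words_ok16, words_ok17, Bool.and_self]
  exact Bool.and_eq_true_iff.1 (List.all_eq_true.1 e w h)

theorem words_lt {w : Word} (h : w ∈ Data.words) : w.2.1 < 2 ^ 56 := by
  refine of_decide_eq_true (List.all_eq_true.1 (?_ : (Data.words.all fun w => decide (w.2.1 < 2 ^ 56)) = true) w h)
  decide +kernel

end CfsgLib.Sporadic.RuLink
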