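import Cfsg.Agent.Lib.Sporadic.RuLink.Codes
import Cfsg.Agent.Lib.Sporadic.RuLink.Slice
import Cfsg.Agent.Lib.Sporadic.RuLink.WordData

/-!
# Checks for the classification of the minimal vectors
-/

set_option autoImplicit false
set_option maxRecDepth 100000

namespace CfsgLib.Sporadic.RuLink

open CfsgLib.Sporadic

/-- The coordinate `c` of the parity words, as a set of `19`-bit numbers. -/
noncomputable def colW (c : ℕ) : ℕ := xorSel 19 (Data.gCol.getD c 0) 19

/-- The `i`-th parity check of `gv`. -/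
def aRow (i : ℕ) : ℕ × ℕ := Data.aRows.getD i (0, 0)

noncomputable def gvN (a : ℕ × ℕ) (c : ℕ) : ℕ :=
  Nat.add (cond (bit0 a.1 c) 1 0) (cond (bit0 a.2 c) 2 0)

abbrev Word : Type := ℕ × ℕ × ℕ × List ℕ

noncomputable def posAt (P j : ℕ) : ℕ := Nat.land (Nat.shiftRight P (Nat.mul 6 j)) 63

noncomputable def posMask (P n : ℕ) : ℕ :=
  Nat.rec 0 (fun j acc => Nat.lor acc (Nat.shiftLeft 1 (posAt P j))) n

noncomputable def posSorted (P : ℕ) : Bool :=
  forallLt 15 fun j => Nat.blt (posAt P j) (posAt P (Nat.add j 1))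

/-- The bits of `a` at the listed positions. -/
noncomputable def pickMask (a P n : ℕ) : ℕ :=
  Nat.rec 0 (fun j acc => cond (bit0 a (posAt P j)) (Nat.lor acc (Nat.shiftLeft 1 j)) acc) n

noncomputable def pickSum (a : ℕ × ℕ) (P n : ℕ) : ℕ :=
  Nat.rec 0 (fun j acc => Nat.add acc (gvN a (posAt P j))) n

noncomputable def full16 : ℕ := Nat.sub (Nat.shiftLeft 1 (Nat.pow 2 16)) 1

/-- The sign patterns satisfying one check. -/
noncomputable def satOne (a : ℕ × ℕ) (P : ℕ) : ℕ :=
  cond (Nat.beq (Nat.mod (pickSum a P 16) 4) 2) (xorSel 16 (pickMask a.1 P 16) 16)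
    (Nat.xor (xorSel 16 (pickMask a.1 P 16) 16) full16)

/-- The sign patterns satisfying all checks. -/
noncomputable def satAll : List (ℕ × ℕ) → ℕ → ℕ
  | [], _ => full16
  | a :: l, P => Nat.land (satOne a P) (satAll l P)

/-- A word of weight `16` with its sign patterns, or a word of weight `8` or `0`. -/
noncomputable def wordOK (w : Word) : Bool :=
  cond (Nat.beq w.2.1 0) (Nat.beq w.1 0)
    (cond (Nat.beq (pc w.2.1) 8)
      (!forallLt 7 fun n => !Nat.beq w.2.1 (Nat.shiftLeft 255 (Nat.mul 8 n)))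
      (posSorted w.2.2.1 && Nat.beq (posMask w.2.2.1 16) w.2.1 &&
        Nat.beq (satAll Data.aRows w.2.2.1) (listMask w.2.2.2)))

/-- The parity word of `m`. -/
noncomputable def wordOf (m : ℕ) (n : ℕ) : ℕ :=
  Nat.rec 0 (fun i acc => cond (bit0 m i) (Nat.xor acc (Data.aRows.getD i (0, 0)).1) acc) n

noncomputable def wordRight (w : Word) : Bool := Nat.beq (wordOf w.1 19) w.2.1

/-! The pairs `c < d` of coordinates have distinct checks. -/

noncomputable def synAcc : ℕ → ℕ × Bool :=
  fun n => Nat.rec (0, true) (fun q acc =>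
    cond (Nat.blt (Nat.div q 56) (Nat.mod q 56))
      (Nat.lor acc.1 (Nat.shiftLeft 1 (Nat.xor (Data.gCol.getD (Nat.div q 56) 0) (Data.gCol.getD (Nat.mod q 56) 0))),
        acc.2 && !bit0 acc.1 (Nat.xor (Data.gCol.getD (Nat.div q 56) 0) (Data.gCol.getD (Nat.mod q 56) 0)))
      acc) n

/-! No word of weight `8` is completed by at most two coordinates. -/

noncomputable def full8 : ℕ := Nat.sub (Nat.shiftLeft 1 256) 1

noncomputable def blockSum (a : ℕ × ℕ) (n : ℕ) : ℕ :=
  Nat.rec 0 (fun k acc => Nat.add acc (gvN a (Nat.add (Nat.mul 8 n) k))) 8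

noncomputable def blockBits (a n : ℕ) : ℕ := Nat.land (Nat.shiftRight a (Nat.mul 8 n)) 255

/-- The two cases of one check on block `n`: without and with an extra odd bit. -/
noncomputable def blockPair (a : ℕ × ℕ) (n : ℕ) : ℕ × ℕ :=
  cond (Nat.beq (Nat.mod (blockSum a n) 4) 2)
    (xorSel 8 (blockBits a.1 n) 8, Nat.xor (xorSel 8 (blockBits a.1 n) 8) full8)
    (Nat.xor (xorSel 8 (blockBits a.1 n) 8) full8, xorSel 8 (blockBits a.1 n) 8)

/-- The signs satisfying every check, given the extra bits `t`. -/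
noncomputable def blockSat : List (ℕ × ℕ) → ℕ → ℕ → ℕ → ℕ
  | [], _, _, _ => full8
  | a :: l, n, t, i => Nat.land (cond (bit0 t i) (blockPair a n).2 (blockPair a n).1) (blockSat l n t (Nat.add i 1))

noncomputable def blockOK (n : ℕ) : Bool :=
  Nat.beq (blockSat Data.aRows n 0 0) 0 &&
    forallLt 56 fun c => Nat.beq (Nat.div c 8) n || forallLt c fun d => Nat.beq (Nat.div d 8) n ||
      Nat.beq (blockSat Data.aRows n (Nat.xor (Data.gCol.getD c 0) (Data.gCol.getD d 0)) 0) 0

end CfsgLib.Sporadic.RuLink
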